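import Cfsg.Agent.KC.P2

/-! Soundness of the character table test. -/

set_option autoImplicit false

namespace Cfsg.Agent.KC

open Finset

/-- the list of rows -/
def RL.l : RL → List (ℕ × ZL)
  | .nil => []
  | .cons d z r => (d, z) :: r.l

/-- the row of values -/
def mZ (D : Dat) (s : St) (S : ℕ → ℤ) : List ℕ → ZL
  | [] => .nil
  | j :: js => .cons (2 ^ j) (D.O j) (D.E j) (s.an j) (S j).toNat (-S j).toNat (mZ D s S js)

/-- the remaining column sums -/
def mG (X Yp Yn : ℕ → ℕ) : List ℕ → KC.GL
  | [] => .nil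
  | j :: js => .cons (X j) (Yp j) (Yn j) (mG X Yp Yn js)

variable {D : Dat} {s : St} {S : ℕ → ℤ} {d : ℕ}

theorem zsum_t {k : ℕ → ℕ → Bool} {mask : ℕ} (js : List ℕ) (p n : ℕ) : ∃ p' n' : ℕ,
    zsum (mZ D s S js) mask k p n = k p' n' ∧ (p' : ℤ) - n' = p - n +
      (js.map fun i => if mask.testBit i = true then D.E i * S i else 0).sum := by
  induction js generalizing p n with
  | nil => exact ⟨p, n, rfl, by simp⟩
  | cons j js ih =>
    have h : zsum (mZ D s S (j :: js)) mask k p n = Bool.rec (motive := fun _ => Bool)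
      (zsum (mZ D s S js) mask k (p + D.E j * (S j).toNat) (n + D.E j * (-S j).toNat))
      (zsum (mZ D s S js) mask k p n) (Nat.beq (Nat.land (2 ^ j) mask) 0) := rfl
    rw [h]
    psimp
    by_cases e : mask.testBit j = true
    · obtain ⟨p', n', h1, h2⟩ := ih (p + D.E j * (S j).toNat) (n + D.E j * (-S j).toNat)
      refine ⟨p', n', by simp [e, h1], ?_⟩
      simp only [h2, List.map_cons, List.sum_cons, e, if_true]
      push_cast
      linear_combination (D.E j : ℤ) * (S j).toNat_sub_toNat_neg
    · obtain ⟨p', n', h1, h2⟩ := ih p n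
      exact ⟨p', n', by simp [e, h1], by simp [h2, e]⟩

theorem zok_t (H : All D) (hs : ∀ j < D.n, StOK D s j) (R : D.Row d S) {as : List ℕ}
    (ha : as.Perm (List.range D.n)) : zok d (mZ D s S as) = true := by
  have key : ∀ js : List ℕ, (∀ j ∈ js, j < D.n) → ZL.rec (motive := fun _ => Bool) true (fun b o _ an _ _ _ ih =>
      Bool.rec false ih (zsum (mZ D s S as) (Nat.lor b an) (fun p n => Bool.rec (motive := fun _ => Bool) false
      (Nat.beq (Nat.mod (Nat.sub p n) o) 0) (Nat.ble n p)) d 0)) (mZ D s S js) = true := fun js hj => by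
    induction js with
    | nil => rfl
    | cons j js ih =>
      have h0 := hj j List.mem_cons_self
      obtain ⟨p', n', h1, h2⟩ := zsum_t (D := D) (s := s) (S := S) (mask := Nat.lor (2 ^ j) (s.an j))
        (k := fun p n => Bool.rec (motive := fun _ => Bool) false
        (Nat.beq (Nat.mod (Nat.sub p n) (D.O j)) 0) (Nat.ble n p)) as d 0
      have h3 := ih fun i hi => hj i (List.mem_cons_of_mem _ hi)
      simp only [mZ, h1, h3]
      psimp
      obtain ⟨m, hm⟩ := R.mult j h0
      have h4 : (p' : ℤ) - n' = D.O j * m := by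
        rw [h2, ← hm, sum_perm ha, sum_filter, ← add_sum_erase _ _ (mem_range.2 h0),
          ← add_sum_erase _ _ (mem_range.2 h0), if_pos (by simp [lr]),
          if_neg (fun h => (H.f1.anc h0 h).2.1.false)]
        simp only [Nat.cast_zero, sub_zero, zero_add, add_assoc, add_right_inj]
        refine sum_congr rfl fun i hi => ?_
        simp [lr, (hs j h0).an, Nat.testBit_two_pow, (mem_erase.1 hi).1.symm]
      have h5 : n' ≤ p' := by have : (0 : ℤ) ≤ D.O j * m := by positivity
                              omega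
      exact ⟨⟨h5, m, by zify [h5]; exact h4⟩, trivial⟩
  exact key as fun j hj => List.mem_range.1 (ha.subset hj)

/-- a continuation that only adds rows -/
def Mono (ih : ℕ → ℕ → ℕ → ℕ → ZL → RL → RL) : Prop :=
  ∀ a b c e z acc, ∀ x ∈ acc.l, x ∈ (ih a b c e z acc).l

section vl
variable {g b o t e c an bp nn st nrm lp ln rn : ℕ} {z : ZL} {acc : RL} {ih : ℕ → ℕ → ℕ → ℕ → ZL → RL → RL}

theorem vl_succ (f u : ℕ) : vl g d b o t e c an bp nn st nrm lp ln rn z acc ih (f + 1) u =
    if u * u + t * t ≤ t * c ∧ nrm + u * u * nn / t ≤ g then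
      (fun rest : RL => if u % bp = t * d % bp then
        ih (nrm + u * u * nn / t) (lp + u * nn) ln (rn - t * nn) (ZL.cons b o e an u 0 z) rest else rest)
      ((fun rest : RL => if bp ∣ u + t * d ∧ 1 ≤ u then
        ih (nrm + u * u * nn / t) lp (ln + u * nn) (rn - t * nn) (ZL.cons b o e an 0 u z) rest else rest)
        (vl g d b o t e c an bp nn st nrm lp ln rn z acc ih f (u + st))) else acc := by
  change Bool.rec (motive := fun _ => RL) acc ((fun rest : RL => Bool.rec (motive := fun _ => RL) rest _ _)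
    ((fun rest : RL => Bool.rec (motive := fun _ => RL) rest _ _)
    (vl g d b o t e c an bp nn st nrm lp ln rn z acc ih f (u + st)))) _ = _
  psimp

theorem vl_mono (hm : Mono ih) (f u : ℕ) : ∀ x ∈ acc.l,
    x ∈ (vl g d b o t e c an bp nn st nrm lp ln rn z acc ih f u).l := fun x hx => by
  induction f generalizing u with
  | zero => exact hx
  | succ f iu =>
    rw [vl_succ]
    have := iu (u + st)
    beta_reduce
    split_ifs <;> first | exact hx | exact this | exact hm _ _ _ _ _ _ _ this | exact hm _ _ _ _ _ _ _ (hm _ _ _ _ _ _ _ this)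

theorem vl_mem (hm : Mono ih) {x : ℕ × ZL} {v : ℕ} (h1 : v * v + t * t ≤ t * c) (h2 : nrm + v * v * nn / t ≤ g)
    (h : (v % bp = t * d % bp ∧ ∀ rest,
      x ∈ (ih (nrm + v * v * nn / t) (lp + v * nn) ln (rn - t * nn) (ZL.cons b o e an v 0 z) rest).l) ∨
      (bp ∣ v + t * d ∧ 1 ≤ v) ∧ ∀ rest,
      x ∈ (ih (nrm + v * v * nn / t) lp (ln + v * nn) (rn - t * nn) (ZL.cons b o e an 0 v z) rest).l)
    {f u i : ℕ} (hi : i < f) (hv : v = u + i * st) :
    x ∈ (vl g d b o t e c an bp nn st nrm lp ln rn z acc ih f u).l := by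
  induction f generalizing u i with
  | zero => omega
  | succ f iu =>
    have h3 : u * u ≤ v * v := Nat.mul_self_le_mul_self (by omega)
    have h4 : u * u * nn / t ≤ v * v * nn / t := Nat.div_le_div_right (Nat.mul_le_mul_right _ h3)
    rw [vl_succ, if_pos ⟨by omega, by omega⟩]
    beta_reduce
    rcases i with _ | i
    · rw [zero_mul, add_zero] at hv
      subst hv
      rcases h with h | h
      · rw [if_pos h.1]; exact h.2 _
      · rw [if_pos h.1]
        split_ifs
        exacts [hm _ _ _ _ _ _ _ (h.2 _), h.2 _]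
    · have := iu (u := u + st) (i := i) (by omega) (by rw [hv]; ring)
      split_ifs <;> first | exact this | exact hm _ _ _ _ _ _ _ this | exact hm _ _ _ _ _ _ _ (hm _ _ _ _ _ _ _ this)

end vl

theorem rg_cons (g j : ℕ) (js : List ℕ) (nrm lp ln rn : ℕ) (z : ZL) (acc : RL) :
    rg g d (mE D s D.C (j :: js)) nrm lp ln rn z acc = if ad lp ln * ad lp ln ≤ (g - nrm) * rn then
      vl g d (2 ^ j) (D.O j) (D.T j) (D.E j) (D.C j) (s.an j) (s.bp j) (g / D.C j) (d / d.gcd (g / D.C j))
        nrm lp ln rn z acc (rg g d (mE D s D.C js))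
        (if d.gcd (g / D.C j) = 1 then 1 else D.T j * d.gcd (g / D.C j)) 0 else acc := by
  change Bool.rec (motive := fun _ => RL) acc (vl _ _ _ _ _ _ _ _ _ _ _ _ _ _ _ _ _ (rg g d (mE D s D.C js))
    (Bool.rec (motive := fun _ => ℕ) _ _ _) _) _ = _
  psimp

theorem rg_nil (g nrm lp ln rn : ℕ) (z : ZL) (acc : RL) :
    rg g d .nil nrm lp ln rn z acc = if lp = ln ∧ zok d z = true then RL.cons d z acc else acc := by
  change Bool.rec (motive := fun _ => RL) acc _ _ = _
  psimp

theorem rg_mono (g : ℕ) (js : List ℕ) : Mono (rg g d (mE D s D.C js)) := fun nrm lp ln rn z acc x hx => by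
  induction js generalizing nrm lp ln rn z acc x with
  | nil =>
    rw [mE, rg_nil]
    split_ifs
    exacts [List.mem_cons_of_mem _ hx, hx]
  | cons j js ih =>
    rw [rg_cons]
    split_ifs
    exacts [vl_mono ih _ _ _ hx, vl_mono ih _ _ _ hx, hx]

theorem cs_list (js : List ℕ) {u v : ℕ → ℚ} (hv : ∀ j ∈ js, 0 < v j) :
    (js.map u).sum ^ 2 ≤ (js.map fun j => u j ^ 2 / v j).sum * (js.map v).sum ∧
      0 ≤ (js.map fun j => u j ^ 2 / v j).sum ∧ 0 ≤ (js.map v).sum := by
  induction js with
  | nil => simp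
  | cons j js ih =>
    obtain ⟨h1, h2, h3⟩ := ih fun i hi => hv i (List.mem_cons_of_mem _ hi)
    have h4 := hv j List.mem_cons_self
    simp only [List.map_cons, List.sum_cons]
    generalize (js.map u).sum = L at *
    generalize (js.map fun j => u j ^ 2 / v j).sum = Q at *
    generalize (js.map v).sum = R at *
    refine ⟨?_, by positivity, by positivity⟩
    obtain ⟨w, hw⟩ : ∃ w, u j = w * v j := ⟨u j / v j, by field_simp⟩
    have h5 : u j ^ 2 / v j = w ^ 2 * v j := by rw [hw]; field_simp
    rw [h5, hw]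
    have h6 : 2 * w * L ≤ w ^ 2 * R + Q := by
      rcases h3.eq_or_lt with e | e
      · rw [← e, mul_zero] at h1
        have : L = 0 := by nlinarith
        rw [this, ← e]; linarith
      · refine le_of_mul_le_mul_right ?_ e
        nlinarith [sq_nonneg (w * R - L)]
    nlinarith [mul_le_mul_of_nonneg_right h6 h4.le]

theorem rg_mem (H : All D) (hs : ∀ j < D.n, StOK D s j) (R : D.Row d S)
    (hc : ∀ j < D.n, S j ^ 2 + D.T j ^ 2 ≤ (D.T j * D.C j : ℤ)) {as : List ℕ} (ha : as.Perm (List.range D.n))
    {js pre : List ℕ} (e : js.reverse ++ pre = as) {nrm lp ln rn : ℕ}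
    (h1 : (lp : ℤ) - ln + (js.map fun j => S j * D.N j).sum = 0)
    (h2 : (nrm : ℚ) + (js.map fun j => (S j : ℚ) ^ 2 * D.N j / D.T j).sum ≤ D.g)
    (h3 : rn = (js.map fun j => D.T j * D.N j).sum) (acc : RL) :
    (d, mZ D s S as) ∈ (rg D.g d (mE D s D.C js) nrm lp ln rn (mZ D s S pre) acc).l := by
  have hl : ∀ j ∈ js, j < D.n := fun j hj => List.mem_range.1 (ha.subset (by simp [← e, hj]))
  induction js generalizing pre nrm lp ln rn acc with
  | nil =>
    simp only [List.reverse_nil, List.nil_append, List.map_nil, List.sum_nil] at e h1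
    rw [mE, rg_nil, e, if_pos ⟨by omega, zok_t H hs R ha⟩]
    exact List.mem_cons_self
  | cons j js ih =>
    have h0 := hl j List.mem_cons_self
    have hT := H.f0.tpos h0
    have hN := H.f0.npos h0
    rw [rg_cons, if_pos]
    swap
    · obtain ⟨h4, h5, h6⟩ := cs_list (j :: js) (u := fun j => (S j : ℚ) * D.N j) (v := fun j => D.T j * D.N j)
        fun i hi => by have := H.f0.tpos (hl i hi); have := H.f0.npos (hl i hi); positivity
      have h7 : ((j :: js).map fun j => ((S j : ℚ) * D.N j) ^ 2 / (D.T j * D.N j)) =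
          (j :: js).map fun j => (S j : ℚ) ^ 2 * D.N j / D.T j := List.map_congr_left fun i hi => by
        have := H.f0.tpos (hl i hi); have := H.f0.npos (hl i hi); field_simp
      rw [h7] at h4 h5
      have h8 : ((j :: js).map fun j => (S j : ℚ) * D.N j).sum = -((lp : ℚ) - ln) := by
        have := congrArg (Int.cast : ℤ → ℚ) h1
        rw [Int.cast_add, Int.cast_list_sum, List.map_map] at this
        simp only [Function.comp_def] at this
        push_cast at this
        linarith
      have h9 : ((j :: js).map fun j => (D.T j : ℚ) * D.N j).sum = rn := by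
        rw [h3, Nat.cast_list_sum, List.map_map]
        simp [Function.comp_def]
      rw [h8, h9, neg_sq] at h4
      have h10 : nrm ≤ D.g := by exact_mod_cast (show (nrm : ℚ) ≤ D.g by linarith)
      have h11 : (((lp : ℤ) - ln) ^ 2 : ℤ) ≤ (D.g - nrm) * rn := by
        have : ((lp : ℚ) - ln) ^ 2 ≤ (D.g - nrm) * rn :=
          h4.trans (mul_le_mul_of_nonneg_right (by linarith) (by positivity))
        exact_mod_cast this
      zify [h10]
      rwa [← Nat.cast_mul, ad_sq]
    simp only [List.map_cons, List.sum_cons] at h1 h2 h3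
    have hv : ((S j).natAbs * (S j).natAbs : ℤ) = S j ^ 2 := by
      rw [← Nat.cast_mul, Int.natAbs_mul_self, pow_two]
    have hq : (((S j).natAbs * (S j).natAbs * D.N j / D.T j : ℕ) : ℚ) ≤ (S j : ℚ) ^ 2 * D.N j / D.T j := by
      refine Nat.cast_div_le.trans (le_of_eq ?_)
      have : ((S j).natAbs * (S j).natAbs : ℚ) = S j ^ 2 := by
        simpa only [Int.cast_mul, Int.cast_natCast, Int.cast_pow] using congrArg (Int.cast : ℤ → ℚ) hv
      push_cast
      rw [this]
    have hr : 0 ≤ (js.map fun j => (S j : ℚ) ^ 2 * D.N j / D.T j).sum := List.sum_nonneg (by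
      simp only [List.mem_map]
      rintro _ ⟨l, -, rfl⟩
      positivity)
    have hb : ((s.bp j : ℕ) : ℤ) ∣ S j - D.T j * d := by
      rcases (hs j h0).bp with h | ⟨h, u, hu⟩
      · simp [h]
      · exact R.cong j h0 _ u h hu
    have hd : 0 < d := by have := R.two; omega
    have hg : 0 < d.gcd (D.N j) := Nat.gcd_pos_of_pos_left _ hd
    obtain ⟨i, hi⟩ : d / d.gcd (D.N j) ∣ (S j).natAbs := by
      refine (Nat.coprime_div_gcd_div_gcd hg).dvd_of_dvd_mul_right (Nat.dvd_of_mul_dvd_mul_right hg ?_)
      rw [Nat.div_mul_cancel (Nat.gcd_dvd_left _ _), mul_assoc, Nat.div_mul_cancel (Nat.gcd_dvd_right _ _)]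
      simpa [Int.natAbs_mul] using Int.natAbs_dvd_natAbs.2 (R.cen j h0)
    have ih' := fun a b c f g h => ih (pre := j :: pre) (by simpa using e) (nrm := nrm +
      (S j).natAbs * (S j).natAbs * D.N j / D.T j) (lp := a) (ln := b) (rn := rn - D.T j * D.N j) c f g h
      fun l hl' => hl l (List.mem_cons_of_mem _ hl')
    refine vl_mem (rg_mono _ _) (v := (S j).natAbs) (i := i) ?_ ?_ ?_ ?_ (by rw [zero_add, hi, mul_comm]; rfl)
    · zify; rw [← pow_two, sq_abs, ← pow_two]; exact hc j h0
    · have : ((nrm + (S j).natAbs * (S j).natAbs * D.N j / D.T j : ℕ) : ℚ) ≤ D.g := by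
        rw [Nat.cast_add]; linarith
      exact_mod_cast this
    · rcases le_or_gt 0 (S j) with h | h
      · refine Or.inl ⟨?_, fun rest => ?_⟩
        · refine (Nat.modEq_iff_dvd.2 ?_).symm
          push_cast
          rwa [abs_of_nonneg h]
        · have := ih' (lp + (S j).natAbs * D.N j) ln (by push_cast; rw [abs_of_nonneg h]; linarith)
            (by rw [Nat.cast_add]; linarith) (by omega) rest
          rwa [mZ, show (S j).toNat = (S j).natAbs by omega, show (-S j).toNat = 0 by omega] at this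
      · refine Or.inr ⟨⟨?_, by omega⟩, fun rest => ?_⟩
        · zify
          rw [abs_of_neg h, ← dvd_neg]
          rwa [neg_add, neg_neg, ← sub_eq_add_neg]
        · have := ih' lp (ln + (S j).natAbs * D.N j) (by push_cast; rw [abs_of_neg h]; linarith)
            (by rw [Nat.cast_add]; linarith) (by omega) rest
          rwa [mZ, show (-S j).toNat = (S j).natAbs by omega, show (S j).toNat = 0 by omega] at this
    · change i < if d.gcd (D.N j) = 1 then 1 else D.T j * d.gcd (D.N j)
      have h4 : 0 < d / d.gcd (D.N j) := Nat.div_pos (Nat.le_of_dvd hd (Nat.gcd_dvd_left _ _)) hg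
      split_ifs with h
      · rw [R.van j h0 h] at hi
        have := Nat.mul_eq_zero.1 hi.symm
        omega
      · have h5 : (S j).natAbs < D.T j * d := by have := R.lt j h0; zify; exact this
        rw [hi, ← Nat.div_mul_cancel (Nat.gcd_dvd_left d (D.N j)), mul_left_comm] at h5
        rw [Nat.div_mul_cancel (Nat.gcd_dvd_left d (D.N j))] at h5
        exact lt_of_mul_lt_mul_left h5 (Nat.zero_le _)

theorem toNat_sq (x : ℤ) : (((x.toNat + (-x).toNat) * (x.toNat + (-x).toNat) : ℕ) : ℤ) = x ^ 2 := by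
  rw [show x.toNat + (-x).toNat = x.natAbs by omega, Int.natAbs_mul_self, pow_two]

theorem gok_t {X Yp Yn : ℕ → ℕ} {dd : ℕ} {js : List ℕ} (h : ∀ j ∈ js, S j ^ 2 ≤ X j ∧
    ((Yp j : ℤ) - Yn j - d * S j) ^ 2 ≤ dd * (X j - S j ^ 2)) : gok d dd (mZ D s S js) (mG X Yp Yn js) = true := by
  induction js with
  | nil => rfl
  | cons j js ih =>
    change Bool.rec (motive := fun _ => Bool) false (Bool.rec (motive := fun _ => Bool) false
      (gok d dd (mZ D s S js) (mG X Yp Yn js)) _) _ = true
    psimp
    obtain ⟨h1, h2⟩ := h j List.mem_cons_self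
    rw [← toNat_sq] at h1
    have h1 := Int.ofNat_le.1 h1
    refine ⟨h1, Int.ofNat_le.1 ?_, ih fun i hi => h i (List.mem_cons_of_mem _ hi)⟩
    rw [ad_sq, Nat.cast_mul dd, Nat.cast_sub h1, toNat_sq]
    convert h2 using 2
    push_cast
    linear_combination (-d : ℤ) * (S j).toNat_sub_toNat_neg

theorem gup_mk (X Yp Yn : ℕ → ℕ) (js : List ℕ) : gup d (mZ D s S js) (mG X Yp Yn js) =
    mG (fun j => X j - ((S j).toNat + (-S j).toNat) * ((S j).toNat + (-S j).toNat))
      (fun j => Yp j + d * (-S j).toNat) (fun j => Yn j + d * (S j).toNat) js := by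
  induction js with
  | nil => rfl
  | cons j js ih => exact congrArg (KC.GL.cons _ _ _) ih

theorem gz_t {X Yp Yn : ℕ → ℕ} {js : List ℕ} (h : ∀ j ∈ js, X j = 0) : gz (mG X Yp Yn js) = true := by
  induction js with
  | nil => rfl
  | cons j js ih =>
    change Bool.rec (motive := fun _ => Bool) false (gz (mG X Yp Yn js)) _ = true
    psimp
    exact ⟨h j List.mem_cons_self, ih fun i hi => h i (List.mem_cons_of_mem _ hi)⟩

theorem srt_t {r : RL} {m : ℕ} (h : r.srt m = true) : ∀ x ∈ r.l, x.1 ≤ m := by
  induction r generalizing m with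
  | nil => simp [RL.l]
  | cons d z r ih =>
    have h' : Bool.rec (motive := fun _ => Bool) false (r.srt d) (Nat.ble d m) = true := h
    psimp at h'
    exact List.forall_mem_cons.2 ⟨h'.1, fun x hx => (ih h'.2 x hx).trans h'.1⟩

theorem cs_mul {α : Type*} (R : Multiset α) (u v : α → ℤ) :
    (R.map fun r => u r * v r).sum ^ 2 ≤ (R.map fun r => u r ^ 2).sum * (R.map fun r => v r ^ 2).sum := by
  induction R using Quotient.inductionOn with
  | h l =>
    have := sum_mul_sq_le_sq_mul_sq (univ : Finset (Fin l.length)) (fun i => u l[i]) (fun i => v l[i])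
    simpa [Fin.sum_univ_fun_getElem l fun r => u r * v r, Fin.sum_univ_fun_getElem l fun r => u r ^ 2,
      Fin.sum_univ_fun_getElem l fun r => v r ^ 2] using this

theorem nt_t {as : List ℕ} {r : ℕ} {R : Multiset (ℕ × (ℕ → ℤ))} (hr : R.card = r) {rows : RL} {m dd : ℕ}
    (hs : rows.srt m = true) (hm : ∀ x ∈ R, (x.1, mZ D s x.2 as) ∈ rows.l) {X Yp Yn : ℕ → ℕ}
    (h1 : (R.map fun x => x.1 ^ 2).sum = dd) (h2 : ∀ j ∈ as, (R.map fun x => x.2 j ^ 2).sum = (X j : ℤ))
    (h3 : ∀ j ∈ as, (R.map fun x => (x.1 : ℤ) * x.2 j).sum = Yp j - Yn j) :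
    ¬ nt r rows dd (mG X Yp Yn as) = true := fun h => by
  induction r generalizing R rows m dd X Yp Yn with
  | zero =>
    have h' : Bool.rec (motive := fun _ => Bool) true (Bool.rec (motive := fun _ => Bool) true false
      (gz (mG X Yp Yn as))) (Nat.beq dd 0) = true := h
    psimp at h'
    rw [Multiset.card_eq_zero.1 hr] at h1 h2
    exact h' (by simpa using h1.symm) (gz_t fun j hj => by simpa using (h2 j hj).symm)
  | succ r ih =>
    replace h : ntl r (nt r) dd (mG X Yp Yn as) rows = true := h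
    induction rows generalizing m with
    | nil =>
      obtain ⟨x, hx⟩ := Multiset.card_pos_iff_exists_mem.1 (show 0 < R.card by omega)
      simpa [RL.l] using hm x hx
    | cons d z rest iu =>
      have h' : Bool.rec (motive := fun _ => Bool) true (Bool.rec (motive := fun _ => Bool) false
        (ntl r (nt r) dd (mG X Yp Yn as) rest) _) _ = true := h
      have hs' : Bool.rec (motive := fun _ => Bool) false (rest.srt d) (Nat.ble d m) = true := hs
      psimp at h' hs'
      have hle : ∀ x ∈ R, x.1 ≤ d := fun x hx => by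
        rcases List.mem_cons.1 (hm x hx) with e | e
        exacts [(congrArg Prod.fst e).le, srt_t hs'.2 _ e]
      obtain ⟨h4, h5⟩ := h' (by
        rw [← h1, ← hr, ← pow_two, mul_comm, ← smul_eq_mul, ← Multiset.card_map fun x : ℕ × (ℕ → ℤ) => x.1 ^ 2]
        refine Multiset.sum_le_card_nsmul _ _ ?_
        simp only [Multiset.mem_map]
        rintro _ ⟨x, hx, rfl⟩
        exact Nat.pow_le_pow_left (hle x hx) 2)
      by_cases e : ∃ x ∈ R, (x.1, mZ D s x.2 as) = (d, z)
      · obtain ⟨⟨d', S⟩, hx, e⟩ := e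
        obtain ⟨rfl, rfl⟩ := Prod.ext_iff.1 e
        obtain ⟨R', rfl⟩ := Multiset.exists_cons_of_mem hx
        simp only [Multiset.map_cons, Multiset.sum_cons, Multiset.card_cons] at hr h1 h2 h3 h4
        have h6 : d' * d' ≤ dd := by rw [← h1, ← pow_two]; omega
        have h7 : ∀ j ∈ as, S j ^ 2 ≤ X j := fun j hj => by
          rw [← h2 j hj]
          exact le_add_of_nonneg_right (Multiset.sum_nonneg (by
            simp only [Multiset.mem_map]
            rintro _ ⟨x, -, rfl⟩
            positivity))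
        have h8 : (R'.map fun x => x.1 ^ 2).sum = dd - d' * d' := by rw [← h1, ← pow_two]; omega
        replace h4 := h4 h6 (gok_t fun j hj => ⟨h7 j hj, by
          have := cs_mul R' (fun x => x.1) fun x => x.2 j
          rw [← h3 j hj, ← h2 j hj, ← h8, add_sub_cancel_left, add_sub_cancel_left, Nat.cast_multiset_sum,
            Multiset.map_map]
          simpa [Function.comp_def] using this⟩)
        rw [gup_mk] at h4
        refine ih (by omega) hs (fun x hx => hm x (Multiset.mem_cons_of_mem hx)) h8 (fun j hj => ?_)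
          (fun j hj => ?_) h4
        · rw [Nat.cast_sub (Int.ofNat_le.1 (by rw [toNat_sq]; exact h7 j hj)), toNat_sq, ← h2 j hj]
          ring
        · push_cast
          linear_combination h3 j hj + (d' : ℤ) * (S j).toNat_sub_toNat_neg
      · exact iu hs'.2 (fun x hx => (List.mem_cons.1 (hm x hx)).resolve_left fun e1 => e ⟨x, hx, e1⟩) h5

theorem dvs_t {g f x : ℕ} (h1 : x * x < g) (h2 : x ∣ g) {acc : List ℕ} (h : x ∈ acc ∨ d ≤ x ∧ x < d + f) :
    x ∈ dvs g f d acc := by
  induction f generalizing d acc with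
  | zero => exact h.resolve_right (by omega)
  | succ f ih =>
    change x ∈ Bool.rec (motive := fun _ => List ℕ) (Bool.rec (motive := fun _ => List ℕ) (dvs g f (d + 1) acc)
      (dvs g f (d + 1) (d :: acc)) _) acc _
    psimp
    split_ifs with e1 e2
    · exact h.resolve_right fun h => by have := Nat.mul_self_le_mul_self h.1; omega
    · refine ih ?_
      rw [List.mem_cons]
      by_cases e : x = d
      · exact Or.inl (Or.inl e)
      · exact h.imp Or.inr (by omega)
    · exact ih (h.imp_right fun h => by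
        have : x ≠ d := fun e => e2 (e ▸ h2)
        omega)

theorem app_l (r t : RL) : (r.app t).l = r.l ++ t.l := by
  induction r with
  | nil => rfl
  | cons d z r ih => exact congrArg (List.cons _) ih

theorem cat_t {R : ℕ → RL} {DL : List ℕ} (h : d ∈ DL) {x : ℕ × ZL} (hx : x ∈ (R d).l) : x ∈ (cat R DL).l := by
  induction DL with
  | nil => simp at h
  | cons e DL ih =>
    change x ∈ ((R e).app (cat R DL)).l
    rw [app_l, List.mem_append]
    rcases List.mem_cons.1 h with rfl | h
    exacts [Or.inl hx, Or.inr (ih h)]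

theorem allN_t {R : ℕ → RL} {p : ℕ} {DL : List ℕ} (h : allN R p DL = true) (hd : d ∈ DL) {x : ℕ × ZL}
    (hx : x ∈ (R d).l) : p ∣ d := by
  induction DL with
  | nil => simp at hd
  | cons e DL ih =>
    have h' : Bool.rec (motive := fun _ => Bool) false (allN R p DL) _ = true := h
    psimp at h'
    rcases List.mem_cons.1 hd with rfl | hd
    · refine h'.1.resolve_right fun e => ?_
      cases h1 : R d <;> simp [h1, RL.l, RL.isNil] at e hx
    · exact ih h'.2 hd

theorem g0_mk (js : List ℕ) :
    g0 (mE D s D.C js) = mG (fun j => D.T j * D.C j - D.T j * D.T j) (fun _ => 0) D.T js := by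
  induction js with
  | nil => rfl
  | cons j js ih => exact congrArg (KC.GL.cons _ _ _) ih

theorem ct_t (H : All D) (hs : ∀ j < D.n, StOK D s j) {PR : PL} (hP : PROK D PR) {as : List ℕ}
    (ha : as.Perm (List.range D.n)) {kk : ℕ} (hk : kk + 1 = D.k) : ¬ ct kk D.g (mE D s D.C as) PR = true := fun h => by
  obtain ⟨R, h1, h2, h3, h4, h5⟩ := H.f4.tab
  have hl : ∀ j ∈ as, j < D.n := fun j hj => List.mem_range.1 (ha.subset hj)
  simp only [ct, ct2] at h
  psimp at h
  obtain ⟨hg, h⟩ := h
  have key : ∀ x ∈ R, x.1 ∈ dvs D.g 3000 2 [] ∧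
      (x.1, mZ D s x.2 as) ∈ (rd D.g (rev (mE D s D.C as) .nil) x.1).l := fun x hx => by
    have h6 : x.1 ^ 2 ≤ (R.map fun r => r.1 ^ 2).sum :=
      Multiset.single_le_sum (by simp) _ (Multiset.mem_map_of_mem (fun r => r.1 ^ 2) hx)
    rw [pow_two] at h6
    refine ⟨dvs_t (by omega) (h2 x hx).dvd (Or.inr ⟨(h2 x hx).two, by
      by_contra h7
      have := Nat.mul_self_le_mul_self (show 3002 ≤ x.1 by omega)
      omega⟩), ?_⟩
    have ha' := (List.reverse_perm as).trans ha
    rw [show rev (mE D s D.C as) .nil = _ from rev_mk as [], List.append_nil]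
    refine rg_mem H hs (h2 x hx) (fun j hj => ?_) ha (pre := []) (by simp) ?_ ?_ ?_ _
    · rw [← h5 j hj]
      exact add_le_add_left (Multiset.single_le_sum (by
        simp only [Multiset.mem_map]
        rintro _ ⟨x, -, rfl⟩
        positivity) _ (Multiset.mem_map_of_mem (fun r => r.2 j ^ 2) hx)) _
    · rw [sum_perm ha']; simpa using (h2 x hx).lin
    · rw [sum_perm ha']; simpa [pow_two] using (h2 x hx).nrm
    · rw [sum_perm ha', ← H.f0.sumN]; rfl
  rcases h with h | h
  · obtain ⟨y, hy, h⟩ := anyP_t h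
    have h6 : y.1 ∣ (R.map fun r => r.1 ^ 2).sum := Multiset.dvd_sum (by
      simp only [Multiset.mem_map]
      rintro _ ⟨x, hx, rfl⟩
      exact (allN_t h (key x hx).1 (key x hx).2).pow two_ne_zero)
    exact (hP.ok y hy).pr.one_lt.ne' (Nat.dvd_one.1 ((Nat.dvd_add_right h6).1 (h3 ▸ (hP.ok y hy).dvd)))
  · rw [g0_mk] at h
    refine nt_t (by omega) h.1 (fun x hx => cat_t (key x hx).1 (key x hx).2) (by omega) (fun j hj => ?_)
      (fun j hj => ?_) h.2
    · rw [Nat.cast_sub (Int.ofNat_le.1 ?_)]
      · push_cast; linear_combination h5 j (hl j hj)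
      · have : 0 ≤ (R.map fun r => r.2 j ^ 2).sum := Multiset.sum_nonneg (by
          simp only [Multiset.mem_map]
          rintro _ ⟨x, -, rfl⟩
          positivity)
        push_cast; nlinarith [h5 j (hl j hj)]
    · push_cast; linear_combination h4 j (hl j hj)

end Cfsg.Agent.KC
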