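import Cfsg.Agent.S2497
import Cfsg.Agent.S2508
import Cfsg.Agent.Ord.O2448
import Cfsg.Agent.Sz.Inst
import Cfsg.Agent.Sz.Struct
import Cfsg.Agent.GLn.Card

/-! Class numbers of the simple groups all of whose elements have prime power order. -/

set_option autoImplicit false

namespace Cfsg.Agent.KC

open Subgroup Cfsg.Agent.EP

variable {G : Type*} [Group G]

/-- order of the centraliser -/
noncomputable abbrev cz (x : G) : ℕ := Nat.card (centralizer ({x} : Set G))

theorem ncard_carrier [Finite G] (x : G) :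
    (ConjClasses.mk x).carrier.ncard = Nat.card G / cz x := by
  classical
  have := Fintype.ofFinite G
  rw [cz, nat_card_centralizer_nat_card_stabilizer, Nat.card_eq_fintype_card,
    Nat.card_eq_fintype_card, ← ConjClasses.card_carrier, ← Nat.card_eq_fintype_card]
  rfl

theorem cls_eq [Finite G] (L : Finset ℕ) (h : ∀ x : G, x ≠ 1 → cz x ∈ L) :
    ∃ n : ℕ → ℕ, 1 + ∑ c ∈ L, n c = Nat.card (ConjClasses G) ∧
      1 + ∑ c ∈ L, n c * (Nat.card G / c) = Nat.card G := by
  classical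
  have := Fintype.ofFinite (ConjClasses G)
  choose r hr using fun C : ConjClasses G => ConjClasses.exists_rep C
  let s : Finset (ConjClasses G) := Finset.univ.erase (ConjClasses.mk 1)
  have hs : ∀ C ∈ s, cz (r C) ∈ L := fun C hC => h _ fun e =>
    (Finset.mem_erase.1 hC).1 (by rw [← hr C, e])
  refine ⟨fun c => (s.filter fun C => cz (r C) = c).card, ?_, ?_⟩
  · rw [← Finset.card_eq_sum_card_fiberwise hs, Nat.card_eq_fintype_card, add_comm,
      Finset.card_erase_add_one (Finset.mem_univ _), Finset.card_univ]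
  · have h1 := Group.sum_card_conj_classes_eq_card G
    rw [finsum_eq_sum_of_fintype, ← Finset.add_sum_erase _ _ (Finset.mem_univ (ConjClasses.mk 1)),
      ← Finset.sum_fiberwise_of_maps_to hs] at h1
    rw [← h1]
    congr 1
    · rw [ncard_carrier, cz, show centralizer ({1} : Set G) = ⊤ from by
        ext; simp [mem_centralizer_singleton_iff], card_top, Nat.div_self Nat.card_pos]
    · refine Finset.sum_congr rfl fun c _ => ?_
      rw [← smul_eq_mul, ← Finset.sum_const]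
      refine Finset.sum_congr rfl fun C hC => ?_
      rw [h1, ← (Finset.mem_filter.1 hC).2, ← ncard_carrier, hr]

theorem cz_map {H : Type*} [Group H] (e : G ≃* H) (x : G) : cz (e x) = cz x :=
  (Nat.card_congr (e.toEquiv.subtypeEquiv fun y => by
    rw [mem_centralizer_singleton_iff, mem_centralizer_singleton_iff, ← e.injective.eq_iff, map_mul,
      map_mul]; rfl)).symm

theorem cz_pp [Finite G] (h : EPPO G) {x : G} (hx : x ≠ 1) :
    IsPrimePow (cz x) ∧ cz x ∣ Nat.card G := by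
  obtain ⟨p, hp, -, h2⟩ := h.exists_pe hx
  have := Fact.mk hp
  obtain ⟨n, hn⟩ := (h.isP_C1 hp h2 hx).exists_card_eq
  refine ⟨⟨p, n, hp.prime, Nat.pos_of_ne_zero fun h0 => hx ?_, hn.symm⟩, card_subgroup_dvd_card _⟩
  rw [h0, pow_zero, card_eq_one] at hn
  exact mem_bot.1 (hn ▸ mem_centralizer_singleton_iff.2 rfl)

theorem cz_two [Finite G] {x : G} {k : ℕ} (h : cz x = 2 ^ k) :
    IsPGroup 2 (centralizer ({x} : Set G)) := IsPGroup.of_card h

/-! ### the Suzuki groups -/

theorem sz_cent {F : Type*} [Field F] (M : Sz.Model G F 1) (x : G) : cz x ≠ 8 := by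
  intro h
  have := M.finG
  obtain ⟨t, ht⟩ := M.exists_le_Q (cz_two (k := 3) h)
  obtain ⟨a, b, rfl⟩ := (M.conj t).mem_Q.1 (ht (mem_centralizer_singleton_iff.2 rfl))
  have hF := M.card
  have hZ : (M.conj t).Z ≤ centralizer {(M.conj t).u a b} := by
    rintro _ ⟨y, rfl⟩
    exact mem_centralizer_singleton_iff.2 ((M.conj t).z_comm _ _ _)
  have he := eq_of_le_of_card_ge hZ (by rw [(M.conj t).card_Z, hF]; exact h.le)
  obtain ⟨y, hy⟩ := (M.conj t).mem_Z.1 (he ▸ mem_centralizer_singleton_iff.2 rfl)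
  have hQ : (M.conj t).Q ≤ centralizer {(M.conj t).u a b} := by
    rintro _ ⟨c, d, rfl⟩
    rw [hy]
    exact mem_centralizer_singleton_iff.2 ((M.conj t).z_comm _ _ _).symm
  have := card_le_of_le hQ
  rw [(M.conj t).card_Q, hF] at this
  change _ ≤ cz _ at this
  omega

/-! ### the group `PSL₃(4)` -/

section L3

variable {F : Type*} [Field F]

/-- unitriangular matrices -/
def uu (a b c : F) : Matrix.SpecialLinearGroup (Fin 3) F :=
  ⟨!![1, a, c; 0, 1, b; 0, 0, 1], by simp [Matrix.det_fin_three]⟩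

theorem uu_mul (a b c a' b' c' : F) : uu a b c * uu a' b' c' = uu (a + a') (b + b') (c + c' + a * b') := by
  ext i j
  rw [Matrix.SpecialLinearGroup.coe_mul]
  fin_cases i <;> fin_cases j <;> simp [uu, Matrix.mul_apply, Fin.sum_univ_three] <;> ring

theorem uu_zero : uu (0 : F) 0 0 = 1 := by
  ext i j
  fin_cases i <;> fin_cases j <;> simp [uu]

/-- their images in the projective group -/
def pu (a b c : F) : Matrix.ProjectiveSpecialLinearGroup (Fin 3) F := QuotientGroup.mk (uu a b c)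

theorem pu_mul (a b c a' b' c' : F) : pu a b c * pu a' b' c' = pu (a + a') (b + b') (c + c' + a * b') := by
  rw [pu, pu, pu, ← uu_mul]; rfl

theorem pu_zero : pu (0 : F) 0 0 = 1 := by rw [pu, uu_zero]; rfl

theorem pu_inv (a b c : F) : (pu a b c)⁻¹ = pu (-a) (-b) (a * b - c) :=
  inv_eq_of_mul_eq_one_right (by rw [pu_mul, ← pu_zero]; congr 1 <;> ring)

theorem pu_inj {a b c a' b' c' : F} (h : pu a b c = pu a' b' c') : a = a' ∧ b = b' ∧ c = c' := by
  have h1 : pu (-a + a') (-b + b') (a * b - c + c' + -a * b') = 1 := by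
    rw [← pu_mul, ← pu_inv, h, inv_mul_cancel]
  obtain ⟨r, -, hr⟩ := Matrix.SpecialLinearGroup.mem_center_iff.1 ((QuotientGroup.eq_one_iff _).1 h1)
  have e1 := congrFun (congrFun hr 0) 1
  have e2 := congrFun (congrFun hr 1) 2
  have e3 := congrFun (congrFun hr 0) 2
  simp [uu] at e1 e2 e3
  refine ⟨by linear_combination e1, by linear_combination e2, ?_⟩
  linear_combination e3 + a * e2

variable (F) in
/-- the unitriangular subgroup -/
def PU : Subgroup (Matrix.ProjectiveSpecialLinearGroup (Fin 3) F) where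
  carrier := {g | ∃ a b c, g = pu a b c}
  mul_mem' := by rintro _ _ ⟨a, b, c, rfl⟩ ⟨a', b', c', rfl⟩; exact ⟨_, _, _, pu_mul ..⟩
  one_mem' := ⟨0, 0, 0, pu_zero.symm⟩
  inv_mem' := by rintro _ ⟨a, b, c, rfl⟩; exact ⟨_, _, _, pu_inv ..⟩

theorem card_PU : Nat.card (PU F) = Nat.card F ^ 3 := by
  have : Function.Bijective fun v : F × F × F => (⟨pu v.1 v.2.1 v.2.2, _, _, _, rfl⟩ : PU F) :=
    ⟨fun v w e => by
      obtain ⟨h1, h2, h3⟩ := pu_inj (congrArg Subtype.val e)
      exact Prod.ext h1 (Prod.ext h2 h3), by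
      rintro ⟨_, a, b, c, rfl⟩; exact ⟨(a, b, c), rfl⟩⟩
  rw [← Nat.card_eq_of_bijective _ this, Nat.card_prod, Nat.card_prod]; ring

theorem card_l34 [Fintype F] (hF : Fintype.card F = 4) :
    Nat.card (Matrix.ProjectiveSpecialLinearGroup (Fin 3) F) = 20160 := by
  have hP := GLn.card_PSL_mul (F := F) (ι := Fin 3)
  rw [GLn.card_SL_eq, hF] at hP
  generalize Nat.card (Matrix.ProjectiveSpecialLinearGroup (Fin 3) F) = m at hP ⊢
  norm_num [Finset.prod_Icc_succ_top] at hP
  omega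

theorem l34_cent [Fintype F] (hF : Fintype.card F = 4)
    (x : Matrix.ProjectiveSpecialLinearGroup (Fin 3) F) {k : ℕ} (h : cz x = 2 ^ k) :
    cz x = 16 ∨ cz x = 64 := by
  have hF' : Nat.card F = 4 := by rw [Nat.card_eq_fintype_card, hF]
  have hU : Nat.card (PU F) = 2 ^ 6 := by rw [card_PU, hF']; rfl
  let P : Sylow 2 _ := (IsPGroup.of_card hU).toSylow (by
    have := (PU F).card_mul_index
    rw [hU, card_l34 hF] at this
    omega)
  obtain ⟨Q, hQ⟩ := (cz_two h).exists_le_sylow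
  obtain ⟨g, hg⟩ := MulAction.exists_smul_eq (Matrix.ProjectiveSpecialLinearGroup (Fin 3) F) Q P
  rw [← cz_map (MulAut.conj g)]
  have hle : centralizer {MulAut.conj g x} ≤ PU F := fun y hy => by
    have h1 : g⁻¹ * y * g ∈ centralizer {x} := by
      rw [mem_centralizer_singleton_iff] at hy ⊢
      rw [MulAut.conj_apply] at hy
      calc g⁻¹ * y * g * x = g⁻¹ * (y * (g * x * g⁻¹)) * g := by group
        _ = _ := by rw [hy]; group
    have h2 : y ∈ (P : Subgroup _) := by
      rw [← hg, Sylow.coe_subgroup_smul, Subgroup.mem_pointwise_smul_iff_inv_smul_mem]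
      simpa using hQ h1
    exact h2
  obtain ⟨a, b, c, e⟩ := hle (mem_centralizer_singleton_iff.2 rfl)
  rw [e] at hle ⊢
  have hc : ∀ a' b' c', pu a' b' c' ∈ centralizer {pu a b c} ↔ a' * b = a * b' := fun a' b' c' => by
    rw [mem_centralizer_singleton_iff, pu_mul, pu_mul]
    exact ⟨fun e => by linear_combination (pu_inj e).2.2, fun e => by
      congr 1 <;> first | ring1 | linear_combination e⟩
  by_cases h0 : a = 0 ∧ b = 0
  · right
    rw [cz, le_antisymm hle, hU]
    · rfl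
    rintro _ ⟨a', b', c', rfl⟩
    rw [hc, h0.1, h0.2]; simp
  · left
    have : Function.Bijective fun v : F × F =>
        (⟨pu (v.1 * a) (v.1 * b) v.2, (hc ..).2 (by ring)⟩ : centralizer {pu a b c}) := by
      refine ⟨fun v w e => ?_, fun y => ?_⟩
      · obtain ⟨h1, h2, h3⟩ := pu_inj (congrArg Subtype.val e)
        refine Prod.ext ?_ h3
        by_contra h4
        exact h0 ⟨(mul_eq_mul_right_iff.1 h1).resolve_left h4, (mul_eq_mul_right_iff.1 h2).resolve_left h4⟩
      · obtain ⟨y, hy⟩ := y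
        obtain ⟨a', b', c', rfl⟩ := hle hy
        have h1 := (hc ..).1 hy
        by_cases ha : a = 0
        · have hb : b ≠ 0 := fun hb => h0 ⟨ha, hb⟩
          refine ⟨(b' / b, c'), Subtype.ext ?_⟩
          have : a' = 0 := by simpa [ha, hb] using h1
          simp [ha, hb, this]
        · refine ⟨(a' / a, c'), Subtype.ext ?_⟩
          have : a' / a * b = b' := by field_simp; linear_combination h1
          simp [ha, this]
    rw [cz, ← Nat.card_eq_of_bijective _ this, Nat.card_prod, hF']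

end L3

/-! ### the class numbers -/

theorem card_psl2 {F : Type*} [Field F] [Fintype F] :
    Nat.card (Matrix.ProjectiveSpecialLinearGroup (Fin 2) F) * Nat.gcd 2 (Fintype.card F - 1) =
      Fintype.card F * (Fintype.card F ^ 2 - 1) := by
  have hP := GLn.card_PSL_mul (F := F) (ι := Fin 2)
  rw [GLn.card_SL_eq] at hP
  generalize Nat.card (Matrix.ProjectiveSpecialLinearGroup (Fin 2) F) = m at hP ⊢
  simpa using hP

theorem pp_mul {c a b : ℕ} (h : IsPrimePow c) (hd : c ∣ a * b) (hab : a.Coprime b) : c ∣ a ∨ c ∣ b :=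
  (hab.isPrimePow_dvd_mul h).1 hd

variable [Finite G]

theorem mem_pp (h : EPPO G) {N : ℕ} (hc : Nat.card G = N) (L : Finset ℕ)
    (hL : ∀ c ∈ Nat.divisors N, IsPrimePow c → c ∈ L) {x : G} (hx : x ≠ 1) : cz x ∈ L :=
  hL _ (Nat.mem_divisors.2 ⟨hc ▸ (cz_pp h hx).2, hc ▸ Nat.card_pos.ne'⟩) (cz_pp h hx).1

theorem k60 (h : EPPO G) (hc : Nat.card G = 60) : Nat.card (ConjClasses G) ≤ 8 := by
  obtain ⟨n, h1, h2⟩ := cls_eq (G := G) {2, 4, 3, 5} fun x => mem_pp h hc _ (by decide +kernel)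
  rw [hc] at h2
  simp at h1 h2
  omega

theorem k168 (h : EPPO G) (hc : Nat.card G = 168) : Nat.card (ConjClasses G) ≤ 8 := by
  obtain ⟨n, h1, h2⟩ := cls_eq (G := G) {2, 4, 8, 3, 7} fun x => mem_pp h hc _ (by decide +kernel)
  rw [hc] at h2
  simp at h1 h2
  omega

theorem k360 (h : EPPO G) (hc : Nat.card G = 360) : Nat.card (ConjClasses G) ≤ 8 := by
  obtain ⟨n, h1, h2⟩ := cls_eq (G := G) {2, 4, 8, 3, 9, 5} fun x => mem_pp h hc _ (by decide +kernel)
  rw [hc] at h2
  simp at h1 h2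
  omega

theorem k504 (h : EPPO G) (hc : Nat.card G = 504) : Nat.card (ConjClasses G) ≤ 9 := by
  obtain ⟨n, h1, h2⟩ := cls_eq (G := G) {2, 4, 8, 3, 9, 7} fun x => mem_pp h hc _ (by decide +kernel)
  rw [hc] at h2
  simp at h1 h2
  omega

theorem k17 {F : Type*} [Field F] [Fintype F] (hF : Fintype.card F = 17)
    (e : G ≃* Matrix.ProjectiveSpecialLinearGroup (Fin 2) F) (hc : Nat.card G = 2448)
    (hG : center G = ⊥) : 11 ≤ Nat.card (ConjClasses G) := by
  obtain ⟨n, h1, h2⟩ := cls_eq (G := G) {8, 16, 9, 17} fun x hx => by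
    have h1 := (Cfsg.Agent.S2508.result (F := F) (by omega) (by omega)).1 (by omega)
    have h2 : (centralizer {e x}).index ∈ _ := h1 ▸ Set.mem_range_self (e x)
    have h3 := (centralizer {e x}).card_mul_index
    change cz _ * _ = _ at h3
    rw [cz_map, ← Nat.card_congr e.toEquiv, hc] at h3
    have h4 : cz x ≠ 2448 := fun h4 => hx (by
      have := (card_eq_iff_eq_top _).1 (h4.trans hc.symm)
      rw [← mem_bot, ← hG, mem_center_iff]
      exact fun g => mem_centralizer_singleton_iff.1 (this ▸ mem_top g))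
    simp only [hF, Set.mem_insert_iff, Set.mem_singleton_iff, Finset.mem_insert,
      Finset.mem_singleton] at h2 ⊢
    rcases h2 with h2 | h2 | h2 | h2 | h2 <;> rw [h2] at h3 <;> omega
  rw [hc] at h2
  simp at h1 h2
  omega

theorem k34 (h : EPPO G) {F : Type*} [Field F] [Fintype F] (hF : Fintype.card F = 4)
    (e : G ≃* Matrix.ProjectiveSpecialLinearGroup (Fin 3) F) :
    Nat.card (ConjClasses G) ≠ 9 ∧ Nat.card (ConjClasses G) ≠ 11 := by
  have hc : Nat.card G = 20160 := by rw [Nat.card_congr e.toEquiv, card_l34 hF]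
  obtain ⟨n, h1, h2⟩ := cls_eq (G := G) {16, 64, 3, 9, 5, 7} fun x hx => by
    obtain ⟨h1, h2⟩ := cz_pp h hx
    rw [hc] at h2
    rcases pp_mul (a := 2 ^ 6) (b := 315) h1 h2 (by norm_num) with h3 | h3
    · obtain ⟨k, -, hk⟩ := (Nat.dvd_prime_pow Nat.prime_two).1 h3
      rw [← cz_map e] at hk ⊢
      rcases l34_cent hF _ hk with h4 | h4 <;> simp [h4]
    · have : ∀ c ∈ Nat.divisors 315, IsPrimePow c → c ∈ ({16, 64, 3, 9, 5, 7} : Finset ℕ) := by
        decide +kernel
      exact this _ (Nat.mem_divisors.2 ⟨h3, by norm_num⟩) h1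
  rw [hc] at h2
  simp at h1 h2
  have e7 : n 7 = 2 := by
    have : n 7 < 7 := by omega
    have := congrArg (· % 7) h2
    interval_cases n 7 <;> omega
  have e5 : n 5 = 2 := by
    have : n 5 < 5 := by omega
    interval_cases n 5 <;> omega
  have e3 : n 3 = 0 ∧ n 9 = 1 := by
    have : n 3 < 3 := by omega
    have : n 9 < 9 := by omega
    interval_cases n 3 <;> interval_cases n 9 <;> omega
  omega

theorem ksz8 (h : EPPO G) {F : Type*} [Field F] [Fintype F] (hF : Fintype.card F = 8)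
    (e : G ≃* ↥(Cfsg.Lie.Sz F 4)) : 11 ≤ Nat.card (ConjClasses G) := by
  have hF' : Nat.card F = 2 ^ (2 * 1 + 1) := by rw [Nat.card_eq_fintype_card, hF]; rfl
  have M : Sz.Model G F 1 := (Sz.lieModel le_rfl hF').map e.symm
  have hc : Nat.card G = 29120 := by rw [M.card_G, hF']; rfl
  obtain ⟨n, h1, h2⟩ := cls_eq (G := G) {2, 4, 16, 32, 64, 5, 7, 13} fun x hx => by
    obtain ⟨h1, h2⟩ := cz_pp h hx
    rw [hc] at h2
    have h0 := sz_cent M x
    rcases pp_mul (a := 64) (b := 455) h1 h2 (by norm_num) with h3 | h3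
    · have : ∀ c ∈ Nat.divisors 64, IsPrimePow c → c ≠ 8 →
          c ∈ ({2, 4, 16, 32, 64, 5, 7, 13} : Finset ℕ) := by decide +kernel
      exact this _ (Nat.mem_divisors.2 ⟨h3, by norm_num⟩) h1 h0
    · have : ∀ c ∈ Nat.divisors 455, IsPrimePow c →
          c ∈ ({2, 4, 16, 32, 64, 5, 7, 13} : Finset ℕ) := by decide +kernel
      exact this _ (Nat.mem_divisors.2 ⟨h3, by norm_num⟩) h1
  rw [hc] at h2
  simp at h1 h2
  omega

theorem ksz32 (h : EPPO G) {F : Type*} [Field F] [Fintype F] (hF : Fintype.card F = 32)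
    (e : G ≃* ↥(Cfsg.Lie.Sz F 8)) : 12 ≤ Nat.card (ConjClasses G) := by
  have hF' : Nat.card F = 2 ^ (2 * 2 + 1) := by rw [Nat.card_eq_fintype_card, hF]; rfl
  have M : Sz.Model G F 2 := (Sz.lieModel (by norm_num) hF').map e.symm
  have hc : Nat.card G = 32537600 := by rw [M.card_G, hF']; rfl
  obtain ⟨n, h1, h2⟩ := cls_eq (G := G) {2, 4, 8, 16, 32, 64, 128, 256, 512, 1024, 5, 25, 41, 31}
    fun x hx => by
    obtain ⟨h1, h2⟩ := cz_pp h hx
    rw [hc] at h2
    have H : ∀ m ∈ ({1024, 775, 41} : Finset ℕ), ∀ c ∈ Nat.divisors m, IsPrimePow c →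
        c ∈ ({2, 4, 8, 16, 32, 64, 128, 256, 512, 1024, 5, 25, 41, 31} : Finset ℕ) := by
      decide +kernel
    rcases pp_mul (a := 1024) (b := 775 * 41) h1 h2 (by norm_num) with h3 | h3
    · exact H _ (by simp) _ (Nat.mem_divisors.2 ⟨h3, by norm_num⟩) h1
    rcases pp_mul h1 h3 (by norm_num) with h3 | h3 <;>
      exact H _ (by simp) _ (Nat.mem_divisors.2 ⟨h3, by norm_num⟩) h1
  have h3 := congrArg (Nat.cast : ℕ → ZMod 31) h2
  have h4 : n 31 ≤ _ := Finset.single_le_sum (f := n) (fun _ _ => Nat.zero_le _)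
    (show 31 ∈ ({2, 4, 8, 16, 32, 64, 128, 256, 512, 1024, 5, 25, 41, 31} : Finset ℕ) by simp)
  rw [hc, Nat.cast_add, Nat.cast_sum, Finset.sum_eq_single 31 (fun c hc h => by
    have : ∀ c ∈ ({2, 4, 8, 16, 32, 64, 128, 256, 512, 1024, 5, 25, 41, 31} : Finset ℕ), c ≠ 31 →
      ((32537600 / c : ℕ) : ZMod 31) = 0 := by decide +kernel
    rw [Nat.cast_mul, this c hc h, mul_zero]) (by simp), Nat.cast_mul] at h3
  by_contra h5
  have h6 : ∀ m < 11, ((1 : ℕ) : ZMod 31) + (m : ℕ) * ((32537600 / 31 : ℕ) : ZMod 31) ≠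
      ((32537600 : ℕ) : ZMod 31) := by decide +kernel
  exact h6 _ (by omega) h3

variable [IsSimpleGroup G]

theorem eppo_cases (hG : ¬ IsMulCommutative G) (h : ∀ g : G, g ≠ 1 → IsPrimePow (orderOf g)) :
    Nat.card (ConjClasses G) ≤ 8 ∨
    (Nat.card (ConjClasses G) ≤ 9 ∧ ∃ (F : Type) (_ : Field F) (_ : Fintype F), Fintype.card F = 8 ∧
      Nonempty (G ≃* Matrix.ProjectiveSpecialLinearGroup (Fin 2) F)) ∨
    (11 ≤ Nat.card (ConjClasses G) ∧
      Nonempty (G ≃* Matrix.ProjectiveSpecialLinearGroup (Fin 2) (ZMod 17))) ∨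
    ((Nat.card (ConjClasses G) ≠ 9 ∧ Nat.card (ConjClasses G) ≠ 11) ∧
      ∃ (F : Type) (_ : Field F) (_ : Fintype F), Fintype.card F = 4 ∧
        Nonempty (G ≃* Matrix.ProjectiveSpecialLinearGroup (Fin 3) F)) ∨
    (11 ≤ Nat.card (ConjClasses G) ∧ ∃ (F : Type) (_ : Field F) (_ : Fintype F), Fintype.card F = 8 ∧
      Nonempty (G ≃* ↥(Cfsg.Lie.Sz F 4))) ∨ 12 ≤ Nat.card (ConjClasses G) := by
  rcases Cfsg.Agent.S2497.result hG h with ⟨⟨e⟩⟩ | ⟨F, _, _, hF, ⟨e⟩⟩ | ⟨F, _, _, hF, ⟨e⟩⟩ |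
    ⟨F, _, _, ⟨hF, ⟨e⟩⟩ | ⟨hF, ⟨e⟩⟩⟩
  · refine .inl (k360 h ?_)
    rw [Nat.card_congr e.toEquiv, nat_card_alternatingGroup]
    simp [Nat.factorial]
  · have hc := card_psl2 (F := F)
    rw [← Nat.card_congr e.toEquiv] at hc
    simp only [Finset.mem_insert, Finset.mem_singleton] at hF
    rcases hF with hF | hF | hF | hF <;> rw [hF] at hc <;> norm_num at hc
    · exact .inl (k60 h hc)
    · exact .inl (k168 h (by omega))
    · exact .inr (.inl ⟨k504 h hc, F, _, _, hF, ⟨e⟩⟩)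
    · refine .inr (.inr (.inl ⟨k17 hF e (by omega) ?_, Ord.o2448 (by omega)⟩))
      refine (IsSimpleGroup.eq_bot_or_eq_top_of_normal _ inferInstance).resolve_right fun h1 => hG ?_
      exact ⟨⟨fun a b => mem_center_iff.1 (h1 ▸ mem_top b) a⟩⟩
  · exact .inr (.inr (.inr (.inl ⟨k34 h hF e, F, _, _, hF, ⟨e⟩⟩)))
  · exact .inr (.inr (.inr (.inr (.inl ⟨ksz8 h hF e, F, _, _, hF, ⟨e⟩⟩))))
  · exact .inr (.inr (.inr (.inr (.inr (ksz32 h hF e)))))

theorem eppo9 (hG : ¬ IsMulCommutative G) (h : ∀ g : G, g ≠ 1 → IsPrimePow (orderOf g))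
    (hk : Nat.card (ConjClasses G) = 9) :
    (∃ (F : Type) (_ : Field F) (_ : Fintype F), Fintype.card F = 8 ∧
        Nonempty (G ≃* Matrix.ProjectiveSpecialLinearGroup (Fin 2) F)) ∨
      Nonempty (G ≃* Matrix.ProjectiveSpecialLinearGroup (Fin 2) (ZMod 13)) ∨
      Nonempty (G ≃* ↥(alternatingGroup (Fin 7))) := by
  rcases eppo_cases hG h with h | h | h | h | h | h
  · omega
  · exact .inl h.2
  all_goals omega

theorem eppo10 (hG : ¬ IsMulCommutative G) (h : ∀ g : G, g ≠ 1 → IsPrimePow (orderOf g))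
    (hk : Nat.card (ConjClasses G) = 10) :
    ∃ (F : Type) (_ : Field F) (_ : Fintype F), Fintype.card F = 4 ∧
        Nonempty (G ≃* Matrix.ProjectiveSpecialLinearGroup (Fin 3) F) := by
  rcases eppo_cases hG h with h | h | h | h | h | h
  iterate 3 omega
  · exact h.2
  all_goals omega

theorem eppo11 (hG : ¬ IsMulCommutative G) (h : ∀ g : G, g ≠ 1 → IsPrimePow (orderOf g))
    (hk : Nat.card (ConjClasses G) = 11) :
    Nonempty (G ≃* Matrix.ProjectiveSpecialLinearGroup (Fin 2) (ZMod 17)) ∨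
      ∃ (F : Type) (_ : Field F) (_ : Fintype F), Fintype.card F = 8 ∧
        Nonempty (G ≃* ↥(Cfsg.Lie.Sz F 4)) := by
  rcases eppo_cases hG h with h | h | h | h | h | h
  iterate 2 omega
  · exact .inl h.2
  · omega
  · exact .inr h.2
  · omega

end Cfsg.Agent.KC
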