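import Cfsg.Agent.KC.RowS

/-! Soundness of the leaf test. -/

set_option autoImplicit false

namespace Cfsg.Agent.KC.RS

open Finset

variable {D : Dat}

theorem bor (a b : Bool) : @Bool.rec (fun _ => Bool) b true a = (a || b) := by cases a <;> rfl
theorem band (a b : Bool) : @Bool.rec (fun _ => Bool) false b a = (a && b) := by cases a <;> rfl
theorem bimp (a b : Bool) : @Bool.rec (fun _ => Bool) true b a = (!a || b) := by cases a <;> rfl
theorem nb_eq (a : Bool) : nb a = !a := by cases a <;> rfl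
theorem beq_dec (a b : ℕ) : Nat.beq a b = decide (a = b) := by
  by_cases h : a = b <;> simp [h, Nat.beq_eq, ← Bool.not_eq_true]
theorem ble_dec (a b : ℕ) : Nat.ble a b = decide (a ≤ b) := by
  by_cases h : a ≤ b <;> simp [h, Nat.ble_eq, ← Bool.not_eq_true]

/-- primes with their caps -/
def PrC (D : Dat) : PL → Prop
  | .nil => True
  | .cons p cap r => p.Prime ∧ p ∣ D.g ∧ (cap = 0 → p = 2 → ∀ j < D.n, ∀ a, D.O j = 2 ^ a → 4 * D.O j ∣ D.g) ∧
      (cap ≠ 0 → cap ∣ D.g ∧ ¬ cap * p ∣ D.g) ∧ PrC D r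

theorem PrC.prD : ∀ {PR : PL}, PrC D PR → PrD D.g PR
  | .nil, _ => trivial
  | .cons .., h => ⟨h.2.1, h.1.one_lt.ne', PrC.prD h.2.2.2.2⟩

theorem anyE_true {k : ℕ → ℕ → ℕ → ℕ → ℕ → Bool} : ∀ {A : EL} {l : List ℕ}, RepE D A l → anyE A k = true →
    ∃ j ∈ l, ∃ bp, (bp = 1 ∨ bp.Prime ∧ ∃ a, D.O j = bp ^ a) ∧ k (D.O j) (D.T j) (D.E j) (D.C j) bp = true
  | .nil, _, _, h => absurd h Bool.false_ne_true
  | .cons .., [], h, _ => h.elim
  | .cons b o t e c an bp pc r, j :: l, ⟨_, h1, h2, h3, h4, _, h5, hR⟩, h => by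
    subst h1 h2 h3 h4
    rcases Bool.or_eq_true_iff.1 ((bor _ _).symm.trans h) with h | h
    · exact ⟨j, List.mem_cons_self, bp, h5, h⟩
    · obtain ⟨i, hi, h⟩ := anyE_true hR h
      exact ⟨i, List.mem_cons_of_mem _ hi, h⟩

theorem anyE_of {k : ℕ → ℕ → ℕ → ℕ → ℕ → Bool} {i : ℕ} (h : ∀ bp, k (D.O i) (D.T i) (D.E i) (D.C i) bp = true) :
    ∀ {A : EL} {l : List ℕ}, RepE D A l → i ∈ l → anyE A k = true
  | .nil, [], _, h => absurd h List.not_mem_nil
  | .nil, _ :: _, h, _ => h.elim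
  | .cons .., [], h, _ => h.elim
  | .cons b o t e c an bp pc r, j :: l, ⟨_, h1, h2, h3, h4, _, _, hR⟩, hi => by
    subst h1 h2 h3 h4
    refine (bor _ _).trans (Bool.or_eq_true_iff.2 ?_)
    rcases List.mem_cons.1 hi with rfl | hi
    exacts [Or.inl (h bp), Or.inr (anyE_of h hR hi)]

theorem sumE_eq (k : ℕ → ℕ → ℕ → ℕ → ℕ) : ∀ {A : EL} {l : List ℕ}, RepE D A l →
    sumE A k = (l.map fun j => k (D.O j) (D.T j) (D.E j) (D.C j)).sum
  | .nil, [], _ => rfl
  | .nil, _ :: _, h => h.elim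
  | .cons .., [], h => h.elim
  | .cons b o t e c an bp pc r, j :: l, ⟨_, h1, h2, h3, h4, _, _, hR⟩ => by
    subst h1 h2 h3 h4
    exact congrArg (_ + ·) (sumE_eq k hR)

theorem sum_perm {α : Type} [AddCommMonoid α] {l : List ℕ} {n : ℕ} (hl : l.Perm (List.range n)) (f : ℕ → α) :
    (l.map f).sum = ∑ j ∈ range n, f j := by
  rw [(hl.map _).sum_eq, ← List.sum_toFinset _ List.nodup_range, List.toFinset_range]

theorem frb_false (h3 : D.F3) {A : EL} {l : List ℕ} (hA : RepE D A l) (hl : l.Perm (List.range D.n)) :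
    ∀ (PR : PL) (x : ℕ), x ∣ D.g → frb D.g A PR x = false
  | .nil, x, hx => by
    have := h3.fr x hx
    unfold frb
    simp only [sumE_eq _ hA, sum_perm hl, br, Nat.beq_eq, nb_eq, Bool.not_eq_false']
    rw [sum_filter] at this
    simp only [Nat.dvd_iff_mod_eq_zero] at this
    exact this
  | .cons p _ r, x, hx => by
    suffices h : ∀ (f x : ℕ), x ∣ D.g → Nat.rec (motive := fun _ => ℕ → Bool) (fun _ => false)
      (fun _ lp x => Bool.rec (motive := fun _ => Bool) (Bool.rec (motive := fun _ => Bool) false (lp (x * p))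
        (Nat.beq (D.g % (x * p)) 0)) true (frb D.g A r x)) f x = false from h 64 x hx
    intro f
    induction f with
    | zero => exact fun _ _ => rfl
    | succ f ih =>
      intro x hx
      dsimp only
      rw [frb_false h3 hA hl r x hx, band, Bool.and_eq_false_iff, beq_dec, decide_eq_false_iff_not,
        ← imp_iff_not_or]
      exact fun h => ih _ (Nat.dvd_of_mod_eq_zero h)

theorem inL_true {o t c : ℕ} : ∀ {l : List (ℕ × ℕ × ℕ)}, inL l o t c = true → (o, t, c) ∈ l
  | [], h => absurd h Bool.false_ne_true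
  | x :: l, h => by
    rcases Bool.or_eq_true_iff.1 ((bor _ _).symm.trans h) with h | h
    · simp only [band, beq_dec, Bool.and_eq_true, decide_eq_true_eq] at h
      obtain ⟨rfl, rfl, rfl⟩ := h
      exact List.mem_cons_self
    · exact List.mem_cons_of_mem _ (inL_true h)

theorem nd_true : ∀ {A : EL} {l : List ℕ}, RepE D A l → nd A = true →
    l.Pairwise fun i j => (D.O i, D.T i, D.C i) ≠ (D.O j, D.T j, D.C j)
  | _, [], _, _ => List.Pairwise.nil
  | .nil, _ :: _, h, _ => h.elim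
  | .cons b o t e c an bp pc r, j :: l, ⟨_, h1, h2, h3, h4, _, _, hR⟩, h => by
    subst h1 h2 h3 h4
    obtain ⟨h5, h6⟩ := Bool.and_eq_true_iff.1 ((band _ _).symm.trans h)
    refine List.Pairwise.cons (fun i hi e => ?_) (nd_true hR h6)
    simp only [Prod.mk.injEq] at e
    rw [anyE_of (i := i) (fun _ => by simp [e]) hR hi] at h5
    exact Bool.false_ne_true h5

theorem acp_true {A : EL} {l : List ℕ} (hA : RepE D A l) (hl : l.Perm (List.range D.n)) {g : ℕ} :
    ∀ {acc : List (ℕ × List (ℕ × ℕ × ℕ))}, acp acc g A = true → ∃ x ∈ acc, g = x.1 ∧ D.Acc x.2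
  | [], h => absurd h Bool.false_ne_true
  | x :: acc, h => by
    rcases Bool.or_eq_true_iff.1 ((bor _ _).symm.trans h) with h | h
    · simp only [band, beq_dec, Bool.and_eq_true, decide_eq_true_eq, nb_eq, Bool.not_eq_true'] at h
      have hm : ∀ j < D.n, j ∈ l := fun j hj => hl.symm.subset (List.mem_range.2 hj)
      refine ⟨x, List.mem_cons_self, h.1, fun j hj => inL_true ?_, fun i hi j hj e => ?_⟩
      · by_contra h1
        rw [anyE_of (i := j) (fun _ => by simpa using h1) hA (hm j hj)] at h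
        exact Bool.false_ne_true h.2.1.symm
      · by_contra h1
        exact @List.Pairwise.forall _ _ _ ⟨fun _ _ h => h.symm⟩ (nd_true hA h.2.2) _ (hm i hi) _ (hm j hj) h1 e
    · obtain ⟨y, hy, h⟩ := acp_true hA hl h
      exact ⟨y, List.mem_cons_of_mem _ hy, h⟩

theorem leaf_true (h0 : D.F0) (h1 : D.F1) (h2 : D.F2) (h3 : D.F3) (h4 : D.F4) {A : EL} {l : List ℕ}
    (hA : RepE D A l) (hl : l.Perm (List.range D.n)) {PR : PL} (hP : PrC D PR)
    (hQ : ∀ q, q.Prime → q ∣ D.g → q ∣ prodP PR) {kk : ℕ} (hk : kk + 1 = D.k)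
    {acc : List (ℕ × List (ℕ × ℕ × ℕ))} (h : leaf kk acc PR A D.g = true) : ∃ x ∈ acc, D.g = x.1 ∧ D.Acc x.2 := by
  have hm : ∀ j < D.n, j ∈ l := fun j hj => hl.symm.subset (List.mem_range.2 hj)
  have hm' : ∀ j ∈ l, j < D.n := fun j hj => List.mem_range.1 (hl.subset hj)
  unfold leaf at h
  simp only [bor, Bool.or_eq_true, ct_false h0 h1 h4 hA hl hP.prD hk, Bool.false_eq_true, or_false] at h
  rcases h with h | h | h | h | h | h | h
  rotate_left 3
  · exact absurd ((frb_false h3 hA hl PR 1 (one_dvd _)).symm.trans h) Bool.false_ne_true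
  rotate_left 3
  · obtain ⟨j, hj, -, -, h⟩ := anyE_true hA h
    simp only [nb_eq, beq_dec, Bool.not_eq_true', decide_eq_false_iff_not] at h
    exact absurd (Nat.mod_eq_zero_of_dvd (h0.ecd j (hm' j hj))) h
  · simp only [band, nb_eq, beq_dec, Bool.not_eq_true', decide_eq_false_iff_not, Bool.and_eq_true,
      decide_eq_true_eq] at h
    obtain ⟨q, hq, h5⟩ := Nat.exists_prime_and_dvd h.1
    exact absurd (Nat.eq_one_of_dvd_coprimes h.2 h5
      (hQ q hq (h5.trans (Nat.div_dvd_of_dvd (Nat.gcd_dvd_left _ _))))) hq.one_lt.ne'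
  · exfalso
    clear hQ
    induction PR with
    | nil => exact Bool.false_ne_true h
    | cons p cap r ih =>
      obtain ⟨p1, p2, p3, p4, p5⟩ := hP
      rcases Bool.or_eq_true_iff.1 ((bor _ _).symm.trans h) with h | h
      swap
      · exact ih p5 h
      simp only [Bool.or_eq_true] at h
      rcases h with h | h | h
      · obtain ⟨a, -, ha⟩ := (Nat.dvd_prime_pow p1).1 (Nat.gcd_dvd_right D.g (p ^ 64))
        have h5 : p ∣ p ^ a := ha ▸ Nat.dvd_gcd p2 (dvd_pow_self p (by norm_num))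
        rcases a with _ | a
        · exact p1.one_lt.ne' (by simpa using h5)
        obtain ⟨j, hj, h6, h7⟩ := h1.cen p a p1 (ha ▸ Nat.gcd_dvd_left _ _)
        rw [anyE_of (i := j) (fun _ => by
          simp only [band, beq_dec, Bool.and_eq_true, decide_eq_true_eq]
          exact ⟨h6, Nat.mod_eq_zero_of_dvd (ha ▸ h7)⟩) hA (hm j hj)] at h
        exact Bool.false_ne_true h
      · obtain ⟨j, hj, -, -, h⟩ := anyE_true hA h
        obtain ⟨a, -, ha⟩ := (Nat.dvd_prime_pow p1).1 (Nat.dvd_of_mod_eq_zero (Nat.eq_of_beq_eq_true h))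
        exact h4.npp j (hm' j hj) p a p1 ha
      · rw [br] at h
        split_ifs at h with h5 <;> rw [Nat.beq_eq] at h5
        · simp only [band, beq_dec, Bool.and_eq_true, decide_eq_true_eq] at h
          obtain ⟨j, hj, bp, h6, h7⟩ := anyE_true hA h.2
          simp only [nb_eq, Bool.not_eq_true', decide_eq_false_iff_not, Bool.and_eq_true, decide_eq_true_eq] at h7
          obtain ⟨-, a, ha⟩ := h6.resolve_left (by omega)
          exact h7.2 (Nat.mod_eq_zero_of_dvd (p3 h5 h.1 j (hm' j hj) a (h7.1 ▸ ha)))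
        · simp only [band, nb_eq, beq_dec, Bool.not_eq_true', decide_eq_false_iff_not, Bool.and_eq_false_iff,
            Bool.not_eq_false', decide_eq_true_eq] at h
          rcases h with h | h
          exacts [h (Nat.mod_eq_zero_of_dvd (p4 h5).1), (p4 h5).2 (Nat.dvd_of_mod_eq_zero h)]
  · have := h2.bf
    simp only [sumE_eq _ hA, sum_perm hl, br, nb_eq, beq_dec, ble_dec, Bool.not_eq_true', decide_eq_false_iff_not,
      decide_eq_true_eq, Bool.or_eq_true] at h
    simp only [sum_filter, Nat.dvd_iff_mod_eq_zero, pow_two] at this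
    exact absurd this h
  · exact absurd (Nat.eq_of_beq_eq_true h) h2.ne
  · exact acp_true hA hl h

end Cfsg.Agent.KC.RS
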