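import Cfsg.Agent.KC.LeafS

/-! Soundness of the search for the centraliser orders. -/

set_option autoImplicit false

namespace Cfsg.Agent.KC.RS

open Finset

variable {D : Dat}

def PMem (q : ℕ) : PL → Prop
  | .nil => False
  | .cons p _ r => q = p ∨ PMem q r

def Caps (g : ℕ) : PL → Prop
  | .nil => True
  | .cons p cap r => (cap ≠ 0 → ¬ cap * p ∣ g) ∧ Caps g r

/-- an entry whose centraliser order is not yet fixed; `la` are the classes already treated -/
structure Ent (D : Dat) (la : List ℕ) (j b o t e m an bp : ℕ) (pc : PL) : Prop where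
  hb : b = 2 ^ j
  ho : o = D.O j
  ht : t = D.T j
  he : e = D.E j
  hm : m ∣ D.C j
  ch : ∀ i ∈ la, D.A i j → D.C i ∣ m
  han : ∀ i, an.testBit i ↔ D.A j i
  hbp : bp = 1 ∨ bp.Prime ∧ ∃ a, D.O j = bp ^ a
  hpc : ∀ q, q.Prime → q ∣ D.O j → PMem q pc
  cap : Caps D.g pc

def RepU (D : Dat) (la : List ℕ) : EL → List ℕ → Prop
  | .nil, [] => True
  | .cons b o t e m an bp pc r, j :: l => Ent D la j b o t e m an bp pc ∧ RepU D la r l
  | _, _ => False

theorem C_pos (h0 : D.F0) {j : ℕ} (hj : j < D.n) : 0 < D.C j :=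
  Nat.pos_of_dvd_of_pos ((dvd_mul_left _ _).trans (h0.ecd j hj)) h0.gpos

theorem C_dvd (h0 : D.F0) {j : ℕ} (hj : j < D.n) : D.C j ∣ D.g := (dvd_mul_left _ _).trans (h0.ecd j hj)

theorem NC (h0 : D.F0) {j : ℕ} (hj : j < D.n) : D.N j * D.C j = D.g := Nat.div_mul_cancel (C_dvd h0 hj)

theorem six_le (h0 : D.F0) (h4 : D.F4) {j : ℕ} (hj : j < D.n) : 6 ≤ D.N j := by
  have h1 := NC h0 hj
  have h2 := h0.gpos
  have h3 := h4.npp j hj
  by_contra! h
  interval_cases D.N j
  · omega
  exacts [h3 2 0 Nat.prime_two rfl, h3 2 1 Nat.prime_two rfl, h3 3 1 Nat.prime_three rfl,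
    h3 2 2 Nat.prime_two rfl, h3 5 1 Nat.prime_five rfl]

theorem A_spec (h1 : D.F1) {i j : ℕ} (hi : i < D.n) (h : D.A i j) : j < D.n ∧ D.O j < D.O i ∧ D.C i ∣ D.C j ∧
    D.E i * D.C i ∣ D.E j * D.C j := by
  obtain ⟨d, h2, h3, h4, rfl⟩ := h
  obtain ⟨k1, k2, -, k4, k5⟩ := h1.pw i hi d h4 (mem_range.1 h2).ne
  have := mem_range.1 h2
  refine ⟨k1, ?_, k4, k5⟩
  rw [← k2] at this ⊢
  exact lt_mul_of_one_lt_right (Nat.pos_of_ne_zero fun e => by simp [e] at this) h3

theorem land_zero (j m : ℕ) : Nat.beq (Nat.land (2 ^ j) m) 0 = !m.testBit j := by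
  rw [show Nat.land (2 ^ j) m = _ from Nat.two_pow_and m j, beq_dec]
  cases m.testBit j <;> simp

theorem lc_eq (a b : ℕ) : lc a b = a.lcm b := by
  show a / a.gcd b * b = _
  rw [Nat.lcm, Nat.div_mul_right_comm (Nat.gcd_dvd_left a b)]

theorem gen_true {hi lo g c : ℕ} {k : ℕ → Bool} (hg : c ∣ g) (hc : 0 < c) (h1 : lo ≤ c) (h2 : c ≤ hi) :
    ∀ (pc : PL) (x : ℕ), Caps g pc → x ∣ c → (∀ q, q.Prime → x * q ∣ c → PMem q pc) → gen hi lo k pc x = true →
      k c = true
  | .nil, x, _, ⟨y, hy⟩, h4, h => by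
    obtain rfl : y = 1 := by
      by_contra h5
      obtain ⟨q, hq, h6⟩ := Nat.exists_prime_and_dvd h5
      exact h4 q hq (hy ▸ Nat.mul_dvd_mul_left x h6)
    rw [mul_one] at hy
    subst hy
    simpa [gen, bimp, ble_dec, h1] using h
  | .cons p cap r, x, h3, h4, h5, h => by
    suffices H : ∀ (f x : ℕ), x ∣ c → (∀ q, q.Prime → x * q ∣ c → PMem q (.cons p cap r)) →
      Nat.rec (motive := fun _ => ℕ → Bool) (fun _ => false) (fun _ lp x => Bool.rec (motive := fun _ => Bool) true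
        (Bool.rec (motive := fun _ => Bool) false (Bool.rec (motive := fun _ => Bool) (lp (x * p)) true
          (Nat.beq (x % cap) 0)) (gen hi lo k r x)) (Nat.ble x hi)) f x = true → k c = true from H 64 x h4 h5 h
    intro f
    induction f with
    | zero => exact fun _ _ _ h => absurd h Bool.false_ne_true
    | succ f ih =>
      intro x h4 h5 h
      have h6 : x ≤ hi := (Nat.le_of_dvd hc h4).trans h2
      dsimp only at h
      rw [bimp, band, bor, ble_dec, beq_dec, decide_eq_true h6] at h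
      simp only [Bool.not_true, Bool.false_or, Bool.and_eq_true, Bool.or_eq_true, decide_eq_true_eq] at h
      by_cases h7 : x * p ∣ c
      · refine ih (x * p) h7 (fun q hq h8 => h5 q hq ((Nat.mul_dvd_mul_right (dvd_mul_right x p) q).trans h8))
          (h.2.resolve_left fun h8 => ?_)
        have h9 := Nat.dvd_of_mod_eq_zero h8
        exact h3.1 (fun e => by rw [e, zero_dvd_iff] at h9; simp [h9] at h4; omega)
          ((Nat.mul_dvd_mul_right h9 p).trans (h7.trans hg))
      · exact gen_true hg hc h1 h2 r x h3.2 h4 (fun q hq h8 => (h5 q hq h8).resolve_left fun e => h7 (e ▸ h8)) h.1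

theorem capd_true {g m q : ℕ} (hm : 0 < m) (h1 : m * q ∣ g) : ∀ pc : PL, Caps g pc → capd pc m = true → ¬ PMem q pc
  | .nil, _, _, h => h
  | .cons p cap r, h2, h3, h => by
    obtain ⟨h4, h5⟩ := Bool.and_eq_true_iff.1 ((band _ _).symm.trans h3)
    have h6 : cap ∣ m := Nat.dvd_of_mod_eq_zero (Nat.eq_of_beq_eq_true h4)
    rcases h with rfl | h
    · exact h2.1 (fun e => by rw [e, zero_dvd_iff] at h6; omega) ((Nat.mul_dvd_mul_right h6 q).trans h1)
    · exact capd_true hm h1 r h2.2 h5 h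

section

variable (h0 : D.F0) (h1 : D.F1) {lu la : List ℕ} (hl : (lu ++ la).Perm (List.range D.n))
include hl

theorem lt_u {j : ℕ} (hj : j ∈ lu) : j < D.n := List.mem_range.1 (hl.subset (List.mem_append_left _ hj))
theorem lt_a {j : ℕ} (hj : j ∈ la) : j < D.n := List.mem_range.1 (hl.subset (List.mem_append_right _ hj))

include h0 h1 in
theorem Ent.prim {j b o t e m an bp : ℕ} {pc : PL} (E : Ent D la j b o t e m an bp pc) (hj : j < D.n)
    (hu : ∀ i ∈ lu, ¬ D.A i j) (q : ℕ) (hq : q.Prime) (h : m * q ∣ D.C j) : PMem q pc := by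
  refine E.hpc q hq (by_contra fun h2 => ?_)
  have hC := C_pos h0 hj
  have hm : m ≠ 0 := (Nat.pos_of_dvd_of_pos E.hm hC).ne'
  obtain ⟨l, k1, k2, k3, k4⟩ := h1.ch j hj q (m.factorization q) hq h2
    ((pow_succ q _ ▸ Nat.mul_dvd_mul_right (Nat.ordProj_dvd m q) q).trans h)
  have h3 := h0.two j hj
  have h4 : D.A l j := ⟨q, mem_range.2 (by rw [k2]; nlinarith [hq.pos]), hq.one_lt, k2 ▸ dvd_mul_right _ _, k3⟩
  exact Nat.pow_succ_factorization_not_dvd hm hq (k4.trans (E.ch l ((List.mem_append.1 (hl.symm.subset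
    (List.mem_range.2 k1))).resolve_left fun h5 => hu l h5 h4) h4))

end

theorem orA_bit {la : List ℕ} (j : ℕ) : ∀ {U : EL} {l : List ℕ}, RepU D la U l →
    ((orA U).testBit j ↔ ∃ i ∈ l, D.A i j)
  | .nil, [], _ => by simp [orA]
  | .nil, _ :: _, h => h.elim
  | .cons .., [], h => h.elim
  | .cons b o t e m an bp pc r, i :: l, ⟨E, hR⟩ => by
    rw [show orA (.cons b o t e m an bp pc r) = an ||| orA r from rfl, Nat.testBit_or, Bool.or_eq_true, E.han,
      orA_bit j hR]
    simp

theorem sumT_eq {la : List ℕ} : ∀ {U : EL} {l : List ℕ}, RepU D la U l → sumT U = (l.map D.T).sum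
  | .nil, [], _ => rfl
  | .nil, _ :: _, h => h.elim
  | .cons .., [], h => h.elim
  | .cons b o t e m an bp pc r, i :: l, ⟨E, hR⟩ => by
    rw [List.map_cons, List.sum_cons, ← sumT_eq hR, ← E.ht]; rfl

theorem le_succ_div (a b : ℕ) (hb : 0 < b) : a ≤ (a / b + 1) * b := by
  rw [mul_comm]; exact (Nat.lt_mul_div_succ a hb).le

theorem sumB_ge (h0 : D.F0) {la : List ℕ} {l1 : ℕ} : ∀ {U : EL} {l : List ℕ}, RepU D la U l →
    (∀ j ∈ l, j < D.n ∧ l1 < D.C j) →
    1152921504606846976 * (l.map fun j => D.T j * D.N j).sum ≤ sumB U l1 * D.g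
  | .nil, [], _, _ => Nat.zero_le _
  | .nil, _ :: _, h, _ => h.elim
  | .cons .., [], h, _ => h.elim
  | .cons b o t e m an bp pc r, j :: l, ⟨E, hR⟩, h => by
    have h1 := sumB_ge h0 hR fun i hi => h i (List.mem_cons_of_mem _ hi)
    obtain ⟨hj, h2⟩ := h j List.mem_cons_self
    obtain ⟨y, hy⟩ := E.hm
    have hm : 0 < m := Nat.pos_of_dvd_of_pos E.hm (C_pos h0 hj)
    have h3 : (l1 / m + 1) * m ≤ D.C j := by
      rw [hy, mul_comm m]
      exact Nat.mul_le_mul_right _ (Nat.div_lt_of_lt_mul (hy ▸ h2))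
    have h4 := le_succ_div (1152921504606846976 * t) ((l1 / m + 1) * m) (by positivity)
    have h5 := Nat.mul_le_mul_left (D.N j) (h4.trans (Nat.mul_le_mul_left _ h3))
    rw [show sumB (.cons b o t e m an bp pc r) l1 = 1152921504606846976 * t / ((l1 / m + 1) * m) + 1 + sumB r l1
      from rfl, List.map_cons, List.sum_cons, mul_add, add_mul, ← E.ht]
    refine add_le_add ?_ h1
    rw [← NC h0 hj]
    linarith

theorem upd_rep (h0 : D.F0) (h1 : D.F1) {la : List ℕ} {j an : ℕ} (hj : j < D.n) (han : ∀ i, an.testBit i ↔ D.A j i) :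
    ∀ {U : EL} {l : List ℕ}, RepU D la U l →
      RepU D (j :: la) (upd U (2 ^ j) an (D.C j) (D.E j * D.C j)) (l.filter (· ≠ j))
  | .nil, [], _ => trivial
  | .nil, _ :: _, h => h.elim
  | .cons .., [], h => h.elim
  | .cons b o t e m an' bp pc r, i :: l, ⟨E, hR⟩ => by
    have h2 := upd_rep h0 h1 hj han hR
    obtain rfl := E.hb
    have e1 : upd (.cons (2 ^ i) o t e m an' bp pc r) (2 ^ j) an (D.C j) (D.E j * D.C j) = if i = j then
        upd r (2 ^ j) an (D.C j) (D.E j * D.C j) else .cons (2 ^ i) o t e (if D.A j i then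
          (m.lcm (D.C j)).lcm (D.E j * D.C j / (D.E j * D.C j).gcd e) else m) an' bp pc
          (upd r (2 ^ j) an (D.C j) (D.E j * D.C j)) := by
      simp only [upd, br, land_zero, lc_eq, Nat.beq_eq, Nat.pow_right_inj one_lt_two, ← han, Bool.not_eq_true',
        ← Bool.not_eq_true, ite_not]
      rfl
    rw [e1, List.filter_cons]
    by_cases h : i = j
    · simpa [h] using h2
    rw [if_neg h, if_pos (show decide (i ≠ j) = true by simpa using h)]
    refine ⟨⟨rfl, E.ho, E.ht, E.he, ?_, fun x hx h3 => ?_, E.han, E.hbp, E.hpc, E.cap⟩, h2⟩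
    · split_ifs with h3
      · obtain ⟨-, -, k1, k2⟩ := A_spec h1 hj h3
        refine Nat.lcm_dvd (Nat.lcm_dvd E.hm k1) ?_
        rw [← E.he] at k2
        have h4 := Nat.gcd_pos_of_pos_left e (mul_pos (h0.epos j hj) (C_pos h0 hj))
        refine (Nat.coprime_div_gcd_div_gcd h4).dvd_of_dvd_mul_left (Nat.dvd_of_mul_dvd_mul_right h4 ?_)
        rwa [Nat.div_mul_cancel (Nat.gcd_dvd_left _ _), mul_right_comm, Nat.div_mul_cancel (Nat.gcd_dvd_right _ _)]
      · exact E.hm
    · rcases List.mem_cons.1 hx with rfl | hx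
      · rw [if_pos h3]; exact (Nat.dvd_lcm_right _ _).trans (Nat.dvd_lcm_left _ _)
      · split_ifs
        exacts [(E.ch x hx h3).trans ((Nat.dvd_lcm_left _ _).trans (Nat.dvd_lcm_left _ _)), E.ch x hx h3]

theorem secR_eq (j o0 t0 p c : ℕ) : ∀ {A : EL} {l : List ℕ}, RepE D A l → secR A (2 ^ j) o0 t0 p c =
    (l.map fun i => if D.A i j ∧ ¬ p ∣ D.O i / o0 then D.T i / t0 * (c / D.C i) else 0).sum + 1
  | .nil, [], _ => rfl
  | .nil, _ :: _, h => h.elim
  | .cons .., [], h => h.elim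
  | .cons b o t e m an bp pc r, i :: l, ⟨_, k1, k2, _, k3, k4, _, hR⟩ => by
    subst k1 k2 k3
    have e1 : secR (.cons b (D.O i) (D.T i) e (D.C i) an bp pc r) (2 ^ j) o0 t0 p c =
        if ¬ D.A i j ∨ p ∣ D.O i / o0 then secR r (2 ^ j) o0 t0 p c else
          D.T i / t0 * (c / D.C i) + secR r (2 ^ j) o0 t0 p c := by
      show Bool.rec (motive := fun _ => ℕ) (D.T i / t0 * (c / D.C i) + secR r (2 ^ j) o0 t0 p c)
        (secR r (2 ^ j) o0 t0 p c) (Bool.rec (motive := fun _ => Bool) (Nat.beq (D.O i / o0 % p) 0) true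
          (Nat.beq (Nat.land (2 ^ j) an) 0)) = _
      rw [bor, land_zero, beq_dec, br]
      simp only [Bool.or_eq_true, decide_eq_true_eq, ← k4, Bool.not_eq_true', Bool.not_eq_true,
        Nat.dvd_iff_mod_eq_zero]
    rw [e1, secR_eq j o0 t0 p c hR, List.map_cons, List.sum_cons]
    by_cases h : D.A i j ∧ ¬ p ∣ D.O i / o0
    · rw [if_pos h, if_neg (by tauto), add_assoc]
    · rw [if_neg h, if_pos (by tauto), zero_add]

theorem secBad_false (h3 : D.F3) {lu la : List ℕ} (hl : (lu ++ la).Perm (List.range D.n)) {A : EL}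
    (hA : RepE D A la) {j bp : ℕ} (hj : j < D.n) (hu : ∀ i ∈ lu, ¬ D.A i j)
    (hbp : bp = 1 ∨ bp.Prime ∧ ∃ a, D.O j = bp ^ a) : secBad A (2 ^ j) (D.O j) (D.T j) bp (D.C j) = false := by
  unfold secBad
  simp only [band, nb_eq, beq_dec, ble_dec, Bool.and_eq_false_iff, Bool.not_eq_false', decide_eq_true_eq,
    Bool.and_eq_true]
  rcases hbp with h | ⟨hp, a, ha⟩
  · exact Or.inl h
  refine Or.inr (Or.inr (or_iff_not_imp_left.2 fun h => ?_))
  obtain ⟨b, -, hb⟩ := (Nat.dvd_prime_pow hp).1 (Nat.gcd_dvd_right (D.C j) (bp ^ 64))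
  have := h3.sec j hj bp a (D.C j / (D.C j).gcd (bp ^ 64)) b hp ha
    (by rw [← hb, Nat.mul_div_cancel' (Nat.gcd_dvd_left _ _)]) fun h' => h (Nat.mod_eq_zero_of_dvd h')
  rw [sum_filter, ← sum_perm hl, List.map_append, List.sum_append, List.sum_eq_zero fun y hy => by
    obtain ⟨i, hi, rfl⟩ := List.mem_map.1 hy
    exact if_neg fun h' => hu i hi h'.1, zero_add, ← secR_eq j _ _ _ _ hA] at this
  exact ⟨Nat.mod_eq_zero_of_dvd this.1, this.2⟩

/-- the invariant of the search -/
structure Inv (D : Dat) (U A : EL) (a b last lo : ℕ) (lu la : List ℕ) : Prop where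
  u : RepU D la U lu
  r : RepE D A la
  perm : (lu ++ la).Perm (List.range D.n)
  srt : lu.Pairwise (· < ·)
  pos : 0 < b
  eq : a * D.g = b * ((lu.map fun j => D.T j * D.N j).sum + 1)
  ord : ∀ j ∈ lu, last ≤ D.C j ∧ (D.C j = last → D.O j ≤ lo)
  one : 1 ≤ last

theorem Inv.lt {U A : EL} {a b last lo : ℕ} {lu la : List ℕ} (I : Inv D U A a b last lo lu la) (h0 : D.F0) {j : ℕ}
    (hj : j ∈ lu) : b * D.T j < a * D.C j := by
  have h1 : D.T j * D.N j ≤ (lu.map fun j => D.T j * D.N j).sum :=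
    List.single_le_sum (fun _ _ => Nat.zero_le _) _ (List.mem_map_of_mem (f := fun j => D.T j * D.N j) hj)
  have h2 := lt_u I.perm hj
  refine Nat.lt_of_mul_lt_mul_right (a := D.N j) ?_
  rw [mul_assoc a, mul_comm (D.C j), NC h0 h2, I.eq, mul_assoc]
  exact Nat.mul_lt_mul_of_pos_left (Nat.lt_succ_of_le h1) I.pos

theorem step_true (h0 : D.F0) (h1 : D.F1) (h3 : D.F3) {U A : EL} {a b last lo : ℕ} {lu la : List ℕ}
    (I : Inv D U A a b last lo lu la) {j b0 o t e m an bp : ℕ} {pc : PL} (hj : j ∈ lu)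
    (E : Ent D la j b0 o t e m an bp pc) (hu : ∀ i ∈ lu, ¬ D.A i j) {last' lo' : ℕ}
    (ho : ∀ i ∈ lu, last' ≤ D.C i ∧ (D.C i = last' → D.O i ≤ lo')) (h1' : 1 ≤ last')
    {ih : EL → EL → ℕ → ℕ → ℕ → ℕ → Bool} (h : step ih U A a b b0 o t e an bp pc (D.C j) last' lo' = true) :
    ∃ U A a b lu la, Inv D U A a b last' lo' lu la ∧ ih U A a b last' lo' = true := by
  obtain ⟨rfl, rfl, rfl, rfl, -, -, han, hbp, -, -⟩ := E
  have hn := lt_u I.perm hj
  have hC := C_pos h0 hn
  unfold step at h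
  rw [secBad_false h3 I.perm I.r hn hu hbp] at h
  have p1 : lu.Perm (j :: lu.filter (· ≠ j)) := by
    have := List.perm_cons_erase hj
    rw [List.Nodup.erase_eq_filter (I.srt.imp ne_of_lt)] at this
    simpa using! this
  have p2 : RepE D (.cons (2 ^ j) (D.O j) (D.T j) (D.E j) (D.C j) an bp pc A) (j :: la) :=
    ⟨rfl, rfl, rfl, rfl, rfl, han, hbp, I.r⟩
  have g1 : 0 < (a * D.C j - b * D.T j).gcd (b * D.C j) := Nat.gcd_pos_of_pos_right _ (mul_pos I.pos hC)
  refine ⟨_, _, _, _, lu.filter (· ≠ j), j :: la, ⟨upd_rep h0 h1 hn han I.u,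
    p2, ?_, I.srt.filter _,
    Nat.div_pos (Nat.gcd_le_right _ (mul_pos I.pos hC)) g1, ?_, fun i hi => ho i (List.mem_of_mem_filter hi), h1'⟩, h⟩
  · exact (List.perm_middle.trans (p1.symm.append_right la)).trans I.perm
  · refine Nat.eq_of_mul_eq_mul_left g1 ?_
    have e1 := I.eq
    rw [(p1.map _).sum_eq, List.map_cons, List.sum_cons] at e1
    show _ * ((a * D.C j - b * D.T j) / (a * D.C j - b * D.T j).gcd (b * D.C j) * _) =
      _ * (b * D.C j / (a * D.C j - b * D.T j).gcd (b * D.C j) * _)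
    rw [← mul_assoc, ← mul_assoc, Nat.mul_div_cancel' (Nat.gcd_dvd_left _ _),
      Nat.mul_div_cancel' (Nat.gcd_dvd_right _ _)]
    have e2 := NC h0 hn
    zify [(I.lt h0 hj).le] at e1 e2 ⊢
    linear_combination (D.C j : ℤ) * e1 + (b : ℤ) * D.T j * e2

theorem lp2_true {ih : EL → EL → ℕ → ℕ → ℕ → ℕ → Bool} {U A : EL} {a b last lo mask hi : ℕ} {la : List ℕ} {j : ℕ}
    (hm : mask.testBit j = false) : ∀ (V : EL) (l : List ℕ) (po pt : ℕ), RepU D la V l → l.Pairwise (· < ·) → j ∈ l →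
    (∀ i ∈ l, i < j → ¬ (D.O j = D.O i ∧ D.T j = D.T i)) → ¬ (D.O j = po ∧ D.T j = pt) →
    lp2 ih U A a b last lo mask hi V po pt = true → ∃ b0 o t e m an bp pc, Ent D la j b0 o t e m an bp pc ∧
      gen hi (last + (t * b / a + 1 - last)) (fun c => (decide (c = last) && decide (lo + 1 ≤ o)) ||
        step ih U A a b b0 o t e an bp pc c c o) pc m = true
  | .nil, [], _, _, _, _, h, _, _, _ => absurd h List.not_mem_nil
  | .nil, _ :: _, _, _, h, _, _, _, _, _ => h.elim
  | .cons .., [], _, _, h, _, _, _, _, _ => h.elim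
  | .cons b0 o t e m an bp pc r, i :: l, po, pt, ⟨E, hR⟩, h1, h2, h3, h4, h => by
    obtain ⟨h5, h6⟩ := Bool.and_eq_true_iff.1 ((band _ _).symm.trans h)
    rcases List.mem_cons.1 h2 with rfl | h2
    · refine ⟨b0, o, t, e, m, an, bp, pc, E, ?_⟩
      rw [bimp, bor, band, E.hb, land_zero, hm, beq_dec, beq_dec, ← E.hb] at h5
      simp only [bor, band, beq_dec, ble_dec, Bool.not_false, Bool.not_true, Bool.false_or, Bool.or_eq_true,
        Bool.and_eq_true, decide_eq_true_eq] at h5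
      exact h5.resolve_left (E.ho ▸ E.ht ▸ h4)
    · exact lp2_true hm r l o t hR (List.pairwise_cons.1 h1).2 h2 (fun i hi => h3 i (List.mem_cons_of_mem _ hi))
        (E.ho ▸ E.ht ▸ h3 i List.mem_cons_self ((List.pairwise_cons.1 h1).1 j h2)) h6

theorem fx_true {ih : EL → EL → ℕ → ℕ → ℕ → ℕ → Bool} {U A : EL} {a b mask : ℕ} {els : Bool} {la : List ℕ} :
    ∀ (V : EL) (l : List ℕ), RepU D la V l → fx ih U A a b mask els V = true → els = true ∨
      ∃ j ∈ l, ∃ b0 o t e m an bp pc, Ent D la j b0 o t e m an bp pc ∧ mask.testBit j = false ∧ capd pc m = true ∧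
        (b * t < a * m → step ih U A a b b0 o t e an bp pc m 1 0 = true)
  | .nil, _, _, h => Or.inl h
  | .cons .., [], h, _ => h.elim
  | .cons b0 o t e m an bp pc r, i :: l, ⟨E, hR⟩, h => by
    have h1 : Bool.rec (motive := fun _ => Bool) (fx ih U A a b mask els r) (Bool.rec (motive := fun _ => Bool) true
      (step ih U A a b b0 o t e an bp pc m 1 0) (Nat.ble (b * t + 1) (a * m))) (Bool.rec (motive := fun _ => Bool)
        false (capd pc m) (Nat.beq (Nat.land b0 mask) 0)) = true := h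
    rw [br, band, bimp, E.hb, land_zero, ← E.hb, ble_dec] at h1
    split_ifs at h1 with h2
    · simp only [Bool.and_eq_true, Bool.not_eq_true'] at h2
      exact Or.inr ⟨i, List.mem_cons_self, b0, o, t, e, m, an, bp, pc, E, h2.1, h2.2, fun h3 => by
        simpa [Nat.succ_le_of_lt h3] using h1⟩
    · exact (fx_true r l hR h1).imp_right fun ⟨j, hj, h⟩ => ⟨j, List.mem_cons_of_mem _ hj, h⟩

section

local infixl:65 " +. " => Nat.add
local infixl:65 " -. " => Nat.sub
local infixl:70 " *. " => Nat.mul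
local infixl:70 " /. " => Nat.div
local infixl:70 " %. " => Nat.mod
local infix:50 " =. " => Nat.beq
local infix:50 " ≤. " => Nat.ble
local notation "n0" => nat_lit 0
local notation "n1" => nat_lit 1
local notation "n6" => nat_lit 6
local notation:10 "IF " c " THEN " a " ELSE " b:10 => Bool.rec b a c
local notation:30 a:31 " →. " b:30 => Bool.rec (motive := fun _ => Bool) true b a

/-- `node` with a variable scale -/
noncomputable def nodeS (S : ℕ) (lf : EL → ℕ → Bool) (f : ℕ) : EL → EL → ℕ → ℕ → ℕ → ℕ → Bool :=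
  Nat.rec (fun _ _ _ _ _ _ => false) (fun _ ih U A a b last lo =>
    (fun r => IF r =. n0 THEN (b %. a =. n0 →. lf A (b /. a)) ELSE
      (S *. a ≤. (sumB U (last -. n1) +. Nat.succ (S /. (n6 *. (last +. (nat_lit 10 -. last))))) *. b →.
        (fun mask => (fun X : Bool => IF last =. n1 THEN fx ih U A a b mask X U ELSE X)
          (lp2 ih U A a b last lo mask (Nat.succ (n6 *. r) *. b /. (n6 *. a)) U n0 n0)) (orA U))) (sumT U)) f

theorem node_eq : node = nodeS (nat_lit 1152921504606846976) := rfl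

end

theorem nodeS_succ (S : ℕ) (lf : EL → ℕ → Bool) (f : ℕ) (U A : EL) (a b last lo : ℕ) :
    nodeS S lf (f + 1) U A a b last lo = if sumT U = 0 then (!decide (b % a = 0) || lf A (b / a)) else
        (!decide (S * a ≤ (sumB U (last - 1) + (S / (6 * (last + (10 - last))) + 1)) * b) ||
          if last = 1 then fx (nodeS S lf f) U A a b (orA U)
            (lp2 (nodeS S lf f) U A a b last lo (orA U) ((6 * sumT U + 1) * b / (6 * a)) U 0 0) U else
            lp2 (nodeS S lf f) U A a b last lo (orA U) ((6 * sumT U + 1) * b / (6 * a)) U 0 0) := by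
  simp only [← ble_dec, ← bimp, ← Nat.beq_eq, ← br, Bool.decide_eq_true]
  rfl

theorem nodeS_true (h0 : D.F0) (h1 : D.F1) (h3 : D.F3) (h4 : D.F4) {lf : EL → ℕ → Bool} {S : ℕ}
    (hS : S = 1152921504606846976) :
    ∀ (f : ℕ) {U A : EL} {a b last lo : ℕ} {lu la : List ℕ}, Inv D U A a b last lo lu la →
      nodeS S lf f U A a b last lo = true → ∃ A l, RepE D A l ∧ l.Perm (List.range D.n) ∧ lf A D.g = true
  | 0, _, _, _, _, _, _, _, _, _, h => absurd h Bool.false_ne_true
  | f + 1, U, A, a, b, last, lo, lu, la, I, h => by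
    rw [nodeS_succ, sumT_eq I.u] at h
    have hg := h0.gpos
    have ha : 0 < a := Nat.pos_of_mul_pos_right (I.eq ▸ mul_pos I.pos (Nat.succ_pos _))
    rcases lu with _ | ⟨j0, lu'⟩
    · have e1 : b = a * D.g := by simpa using I.eq.symm
      rw [e1, Nat.mul_mod_right, Nat.mul_div_cancel_left _ ha] at h
      exact ⟨A, la, I.r, I.perm, by simpa using h⟩
    generalize hlu : j0 :: lu' = lu at I h
    have hj0 : j0 ∈ lu := hlu ▸ List.mem_cons_self
    have hT : D.T j0 ≤ _ := List.single_le_sum (fun _ _ => Nat.zero_le _) _ (List.mem_map_of_mem hj0)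
    have hT' := T_pos h0 (lt_u I.perm hj0)
    have e1 : S * a ≤ (sumB U (last - 1) + (S / (6 * (last + (10 - last))) + 1)) * b := by
      have k1 := sumB_ge h0 (l1 := last - 1) I.u fun j hj => ⟨lt_u I.perm hj, by
        have := (I.ord j hj).1; have := I.one; omega⟩
      rw [← hS] at k1
      have k2 : 6 * (last + (10 - last)) ≤ D.g := by
        have := Nat.mul_le_mul (six_le h0 h4 (lt_u I.perm hj0)) (I.ord j0 hj0).1
        rw [NC h0 (lt_u I.perm hj0)] at this
        have := h4.sixty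
        omega
      have k3 := (le_succ_div S (6 * (last + (10 - last))) (by omega)).trans
        (Nat.mul_le_mul_left _ k2)
      refine Nat.le_of_mul_le_mul_right ?_ hg
      rw [mul_comm S a, mul_right_comm, I.eq, mul_right_comm _ b, mul_comm _ b, mul_assoc, add_mul, add_mul _ _ D.g]
      exact Nat.mul_le_mul_left _ (by linarith)
    rw [if_neg (by omega), decide_eq_true e1, Bool.not_true, Bool.false_or] at h
    have fin : ∀ {last' lo'}, (∃ U A a b lu la, Inv D U A a b last' lo' lu la ∧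
        nodeS S lf f U A a b last' lo' = true) → _ := fun ⟨_, _, _, _, _, _, I, h⟩ => nodeS_true h0 h1 h3 h4 hS f I h
    have hu : ∀ j, (orA U).testBit j = false → ∀ i ∈ lu, ¬ D.A i j := fun j hj i hi h => by
      rw [(orA_bit j I.u).2 ⟨i, hi, h⟩] at hj
      exact Bool.false_ne_true hj.symm
    have main : lp2 (nodeS S lf f) U A a b last lo (orA U) ((6 * (lu.map D.T).sum + 1) * b / (6 * a)) U 0 0 = true →
        ∃ A l, RepE D A l ∧ l.Perm (List.range D.n) ∧ lf A D.g = true := fun h => by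
      obtain ⟨j, hj, hmin⟩ := exists_min_image lu.toFinset
        (fun j => toLex (D.C j, toLex (OrderDual.toDual (D.O j), j))) ⟨j0, List.mem_toFinset.2 hj0⟩
      rw [List.mem_toFinset] at hj
      have hm : ∀ i ∈ lu, D.C j < D.C i ∨ D.C j = D.C i ∧ (D.O i < D.O j ∨ D.O j = D.O i ∧ j ≤ i) := fun i hi => by
        simpa only [Prod.Lex.toLex_le_toLex, OrderDual.toDual_lt_toDual, EmbeddingLike.apply_eq_iff_eq] using
          hmin i (List.mem_toFinset.2 hi)
      have hn := lt_u I.perm hj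
      have k1 : ∀ i ∈ lu, ¬ D.A i j := fun i hi h => by
        obtain ⟨-, k1, k2, -⟩ := A_spec h1 (lt_u I.perm hi) h
        have := Nat.le_of_dvd (C_pos h0 hn) k2
        have := hm i hi
        omega
      obtain ⟨b0, o, t, e, m, an, bp, pc, E, h⟩ := lp2_true (Bool.eq_false_iff.2 fun h => by
        obtain ⟨i, hi, h⟩ := (orA_bit j I.u).1 h
        exact k1 i hi h) U lu 0 0 I.u I.srt hj (fun i hi h2 h5 => by
          have := h0.srt i j h2.le hn
          have := hm i hi
          omega) (fun h => by have := h0.two j hn; omega) h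
      have k2 := gen_true (C_dvd h0 hn) (C_pos h0 hn) ?_ ?_ pc m E.cap E.hm (E.prim h0 h1 I.perm hn k1) h
      · refine fin (step_true h0 h1 h3 I hj E k1 (fun i hi => ?_) (C_pos h0 hn) ((Bool.or_eq_true_iff.1 k2).resolve_left
          fun h => ?_))
        · have := hm i hi
          have := E.ho
          omega
        · simp only [Bool.and_eq_true, decide_eq_true_eq] at h
          have := (I.ord j hj).2 h.1
          have := E.ho
          omega
      · have k3 : t * b / a < D.C j := Nat.div_lt_of_lt_mul (by rw [mul_comm, E.ht]; exact I.lt h0 hj)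
        have := (I.ord j hj).1
        omega
      · rw [Nat.le_div_iff_mul_le (by omega)]
        refine Nat.le_of_mul_le_mul_right ?_ hg
        have k3 : (lu.map fun i => D.T i * D.N i).sum * D.C j ≤ (lu.map D.T).sum * D.g := by
          rw [← List.sum_map_mul_right, ← List.sum_map_mul_right]
          refine List.sum_le_sum fun i hi => ?_
          rw [mul_assoc, ← NC h0 (lt_u I.perm hi)]
          have := hm i hi
          exact Nat.mul_le_mul_left _ (Nat.mul_le_mul_left _ (by omega))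
        have k4 := Nat.mul_le_mul_right (D.C j) (six_le h0 h4 hn)
        rw [NC h0 hn] at k4
        calc D.C j * (6 * a) * D.g = 6 * D.C j * (a * D.g) := by ring
          _ = b * (6 * ((lu.map fun i => D.T i * D.N i).sum * D.C j) + 6 * D.C j) := by rw [I.eq]; ring
          _ ≤ b * (6 * ((lu.map D.T).sum * D.g) + D.g) := by gcongr
          _ = _ := by ring
    split_ifs at h with h5
    · rcases fx_true U lu I.u h with h | ⟨j, hj, b0, o, t, e, m, an, bp, pc, E, k1, k2, k3⟩
      · exact main h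
      have hn := lt_u I.perm hj
      obtain rfl : m = D.C j := by
        obtain ⟨y, hy⟩ := E.hm
        by_contra h6
        obtain ⟨q, hq, h7⟩ := Nat.exists_prime_and_dvd (show y ≠ 1 from fun e => h6 (by rw [hy, e, mul_one]))
        have h8 : m * q ∣ D.C j := hy ▸ Nat.mul_dvd_mul_left m h7
        exact capd_true (Nat.pos_of_dvd_of_pos E.hm (C_pos h0 hn)) (h8.trans (C_dvd h0 hn)) pc E.cap k2
          (E.prim h0 h1 I.perm hn (hu j k1) q hq h8)
      refine fin (step_true h0 h1 h3 I hj E (hu j k1) (fun i hi => ?_) le_rfl (k3 (E.ht ▸ I.lt h0 hj)))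
      have := Nat.le_of_dvd (C_pos h0 (lt_u I.perm hi)) (h0.odvd i (lt_u I.perm hi))
      have := h0.two i (lt_u I.perm hi)
      omega
    · exact main h

theorem node_true (h0 : D.F0) (h1 : D.F1) (h3 : D.F3) (h4 : D.F4) {lf : EL → ℕ → Bool} {f : ℕ} {U : EL}
    (hU : RepU D [] U (List.range D.n)) (h : node lf f U .nil 1 1 1 0 = true) :
    ∃ A l, RepE D A l ∧ l.Perm (List.range D.n) ∧ lf A D.g = true := by
  rw [node_eq] at h
  refine nodeS_true h0 h1 h3 h4 rfl f (A := .nil) (lu := List.range D.n) (la := []) ⟨hU, trivial, by simp,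
    List.pairwise_lt_range, one_pos, ?_, fun j hj => ?_, le_rfl⟩ h
  · rw [sum_perm (List.Perm.refl _), h0.sumN]
  · have hn := List.mem_range.1 hj
    have := Nat.le_of_dvd (C_pos h0 hn) (h0.odvd j hn)
    have := h0.two j hn
    omega

end Cfsg.Agent.KC.RS
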