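import Cfsg.Agent.KC.NodeS
import Cfsg.Agent.KC.Run

/-! Soundness of the search for the element orders, and of the whole program. -/

set_option autoImplicit false
set_option linter.unusedSectionVars false

namespace Cfsg.Agent.KC.RS

open Finset

variable {D : Dat}

theorem ndiv (a b : ℕ) : Nat.div a b = a / b := rfl
theorem nmod (a b : ℕ) : Nat.mod a b = a % b := rfl

def pl : PL → List ℕ
  | .nil => []
  | .cons p _ r => p :: pl r

def PAll (P : ℕ → ℕ → Prop) : PL → Prop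
  | .nil => True
  | .cons p c r => P p c ∧ PAll P r

theorem PAll.imp {P Q : ℕ → ℕ → Prop} (h : ∀ p c, P p c → Q p c) : ∀ {PR : PL}, PAll P PR → PAll Q PR
  | .nil, _ => trivial
  | .cons .., h' => ⟨h _ _ h'.1, PAll.imp h h'.2⟩

theorem PAll.mem {P : ℕ → ℕ → Prop} {p : ℕ} : ∀ {PR : PL}, PAll P PR → p ∈ pl PR → ∃ c, P p c
  | .nil, _, h => absurd h List.not_mem_nil
  | .cons _ c _, h, h' => by
    rcases List.mem_cons.1 h' with rfl | h'
    exacts [⟨c, h.1⟩, PAll.mem h.2 h']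

theorem pmem {q : ℕ} : ∀ {PR : PL}, q ∈ pl PR → PMem q PR
  | .nil, h => absurd h List.not_mem_nil
  | .cons .., h => (List.mem_cons.1 h).imp_right pmem

theorem flt_cons (p c : ℕ) (r : PL) (o : ℕ) : flt (.cons p c r) o = if p ∣ o then .cons p c (flt r o) else flt r o := by
  simp only [Nat.dvd_iff_mod_eq_zero, ← Nat.beq_eq, ← br]; rfl

theorem flt_spec {P : ℕ → ℕ → Prop} (o : ℕ) : ∀ PR : PL, PAll P PR →
    PAll P (flt PR o) ∧ pl (flt PR o) = (pl PR).filter (· ∣ o)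
  | .nil, _ => ⟨trivial, rfl⟩
  | .cons p c r, h => by
    obtain ⟨h1, h2⟩ := flt_spec o r h.2
    rw [flt_cons, pl, List.filter_cons]
    by_cases e : p ∣ o
    · rw [if_pos e, if_pos (decide_eq_true e), pl, h2]; exact ⟨⟨h.1, h1⟩, rfl⟩
    · rw [if_neg e, if_neg (by simpa using e)]; exact ⟨h1, h2⟩

theorem prodP_eq : ∀ PR : PL, prodP PR = (pl PR).prod
  | .nil => rfl
  | .cons p _ r => congrArg (p * ·) (prodP_eq r)

theorem lenP_eq : ∀ PR : PL, lenP PR = (pl PR).length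
  | .nil => rfl
  | .cons _ _ r => congrArg (· + 1) (lenP_eq r)

theorem le_mxP {q : ℕ} : ∀ {PR : PL}, q ∈ pl PR → q ≤ mxP PR
  | .nil, h => absurd h List.not_mem_nil
  | .cons p _ r, h => by
    show q ≤ p + (mxP r - p)
    rcases List.mem_cons.1 h with rfl | h
    · omega
    · have := le_mxP h; omega

theorem phi_eq (o : ℕ) : ∀ pc : PL, (pl pc).prod ∣ o → phi pc o = o / (pl pc).prod * ((pl pc).map (· - 1)).prod
  | .nil, _ => by simp [phi, pl]
  | .cons p c r, ⟨y, hy⟩ => by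
    rw [pl, List.prod_cons] at hy
    rw [show phi (.cons p c r) o = phi r o / p * (p - 1) from rfl, phi_eq o r ⟨p * y, by rw [hy]; ring⟩, pl,
      List.prod_cons, List.map_cons, List.prod_cons]
    rcases Nat.eq_zero_or_pos (p * (pl r).prod) with h | h
    · simp [hy, h]
    rw [hy, Nat.mul_div_cancel_left _ h, mul_comm p, mul_assoc,
      Nat.mul_div_cancel_left _ (Nat.pos_of_mul_pos_left h), mul_assoc,
      Nat.mul_div_cancel_left _ (Nat.pos_of_mul_pos_right h)]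
    ring

theorem phi_tot {o : ℕ} (ho : o ≠ 0) {pc : PL} (h1 : (pl pc).Nodup) (h2 : ∀ q, q ∈ pl pc ↔ q.Prime ∧ q ∣ o) :
    phi pc o = o.totient := by
  have e : (pl pc).toFinset = o.primeFactors := by ext q; simp [h2, ho]
  have e1 : (pl pc).prod = ∏ p ∈ o.primeFactors, p := by rw [← e, List.prod_toFinset _ h1, List.map_id']
  rw [phi_eq o pc (e1 ▸ Nat.prod_primeFactors_dvd o), Nat.totient_eq_div_primeFactors_mul, ← e1, ← e,
    List.prod_toFinset _ h1]

theorem allLt_true {k : ℕ → Bool} {i : ℕ} : ∀ {n : ℕ}, i < n → allLt n k = true → k i = true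
  | 0, h, _ => absurd h (Nat.not_lt_zero _)
  | n + 1, h, h' => by
    obtain ⟨h1, h2⟩ := Bool.and_eq_true_iff.1 ((band _ _).symm.trans h')
    rcases Nat.lt_succ_iff_lt_or_eq.1 h with h | rfl
    exacts [allLt_true h h2, h1]

theorem hasO_true {la : List ℕ} {i : ℕ} : ∀ {U : EL} {l : List ℕ}, RepU D la U l → i ∈ l → hasO U (D.O i) = true
  | .nil, [], _, h => absurd h List.not_mem_nil
  | .nil, _ :: _, h, _ => h.elim
  | .cons .., [], h, _ => h.elim
  | .cons .., j :: l, ⟨E, hR⟩, hi => by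
    refine (bor _ _).trans (Bool.or_eq_true_iff.2 ?_)
    rcases List.mem_cons.1 hi with rfl | hi
    exacts [Or.inl (Nat.beq_eq.mpr E.ho), Or.inr (hasO_true hR hi)]

theorem updM_rep (h1 : D.F1) {j an lb : ℕ} (hj : j < D.n) (han : ∀ i, an.testBit i ↔ D.A j i) (hlb : lb ∣ D.C j) :
    ∀ {U : EL} {l : List ℕ}, RepU D [] U l → RepU D [] (updM U an lb) l
  | .nil, [], _ => trivial
  | .nil, _ :: _, h => h.elim
  | .cons .., [], h => h.elim
  | .cons b o t e m an' bp pc r, i :: l, ⟨E, hR⟩ => by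
    refine ⟨⟨E.hb, E.ho, E.ht, E.he, ?_, fun _ h => absurd h List.not_mem_nil, E.han, E.hbp, E.hpc, E.cap⟩,
      updM_rep h1 hj han hlb hR⟩
    rw [br, E.hb, land_zero, lc_eq]
    split_ifs with h
    · exact E.hm
    · exact Nat.lcm_dvd E.hm (hlb.trans (A_spec h1 hj ((han i).1 (by simpa using h))).2.2.1)

theorem repU_rev {la : List ℕ} : ∀ (A : EL) (l : List ℕ) (B : EL) (m : List ℕ), RepU D la A l → RepU D la B m →
    RepU D la (rev A B) (l.reverseAux m)
  | .nil, [], _, _, _, h => h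
  | .cons b o t e c an bp pc r, j :: l, B, m, ⟨h1, h2⟩, h =>
    repU_rev r l (.cons b o t e c an bp pc B) (j :: m) h2 ⟨h1, h⟩
  | .nil, _ :: _, _, _, h, _ => h.elim
  | .cons .., [], _, _, h, _ => h.elim

theorem no_mixed (h0 : D.F0) {la : List ℕ} : ∀ {U : EL} {l : List ℕ}, RepU D la U l →
    (anyE U fun _ _ _ _ bp => Nat.beq bp 1) = false → ∀ j ∈ l, j < D.n → IsPrimePow (D.O j)
  | .nil, [], _, _, _, h, _ => absurd h List.not_mem_nil
  | .nil, _ :: _, h, _, _, _, _ => h.elim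
  | .cons .., [], h, _, _, _, _ => h.elim
  | .cons b o t e c an bp pc r, i :: l, ⟨E, hR⟩, h, j, hj, hn => by
    obtain ⟨h1, h2⟩ := Bool.or_eq_false_iff.1 ((bor _ _).symm.trans h)
    rcases List.mem_cons.1 hj with rfl | hj
    · obtain ⟨hp, a, ha⟩ := E.hbp.resolve_left fun e => by simp [e] at h1
      have := h0.two j hn
      exact (isPrimePow_nat_iff _).2 ⟨bp, a, hp, Nat.pos_of_ne_zero fun e => by simp [e] at ha; omega, ha.symm⟩
    · exact no_mixed h0 hR h2 j hj hn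

/-- a prime with its cap -/
structure PE (D : Dat) (j p cap : ℕ) : Prop where
  pr : p.Prime
  ex : ∃ i < j, i < D.n ∧ D.O i = p
  four : cap = 0 → p = 2 → ∀ j < D.n, ∀ a, D.O j = 2 ^ a → 4 * D.O j ∣ D.g
  dvd : cap ≠ 0 → cap ∣ D.g ∧ ¬ cap * p ∣ D.g
  big : cap = 0 → ∀ l < D.n, ∀ a, D.O l = p ^ a → sq p ∣ D.C l
  uni : cap ≠ 0 → ∀ i < D.n, ∀ l < D.n, D.O i = p → D.O l = p → i = l
  top : cap ≠ 0 → ∀ l < D.n, ∀ a, D.O l = p ^ a → D.O l ≠ p → ¬ cap ∣ D.O l

theorem PE.mono {j p cap : ℕ} (h : PE D j p cap) : PE D (j + 1) p cap :=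
  ⟨h.pr, h.ex.imp fun _ h => ⟨h.1.trans (Nat.lt_succ_self _), h.2⟩, h.four, h.dvd, h.big, h.uni, h.top⟩

theorem caps_of {j : ℕ} : ∀ {PR : PL}, PAll (PE D j) PR → Caps D.g PR
  | .nil, _ => trivial
  | .cons .., h => ⟨fun e => (h.1.dvd e).2, caps_of h.2⟩

theorem prC_of (h0 : D.F0) {j : ℕ} : ∀ {PR : PL}, PAll (PE D j) PR → PrC D PR
  | .nil, _ => trivial
  | .cons .., h => by
    obtain ⟨i, -, hi, e⟩ := h.1.ex
    exact ⟨h.1.pr, e ▸ (h0.odvd i hi).trans (C_dvd h0 hi), h.1.four, h.1.dvd, prC_of h0 h.2⟩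

/-- the list of primes -/
structure PI (D : Dat) (j : ℕ) (PR : PL) : Prop where
  nd : (pl PR).Nodup
  mem : ∀ i < j, (D.O i).Prime → D.O i ∈ pl PR
  all : PAll (PE D j) PR

def C2 (D : Dat) (c2 : ℕ) : Prop := c2 = 0 ∨ ∃ c, c2 = 2 ^ (c + 2) ∧ ∀ i ≤ c, ∃ l < D.n, D.O l = 2 ^ (i + 1)

/-- the invariant of the first phase -/
structure Inv1 (D : Dat) (j rem last lt c2 w : ℕ) (L : EL) (PR : PL) : Prop where
  le : j ≤ D.n
  rem : rem = ∑ i ∈ Ico j D.n, D.T i
  lo : ∀ i < j, D.O i ≤ last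
  hi : ∀ i, j ≤ i → i < D.n → last ≤ D.O i ∧ (D.O i = last → lt ≤ D.T i)
  two : 2 ≤ last
  c2 : C2 D c2
  w : (∃ a, w = 2 ^ (a + 1)) ∧ ∀ i < j, D.O i ≠ w
  rep : RepU D [] L (List.range j).reverse
  pr : PI D j PR

def Step (D : Dat) (j : ℕ) (X : K1 → Bool) : Prop := ∃ rem last lt c2 w h L PR,
  Inv1 D (j + 1) rem last lt c2 w L PR ∧ ∀ ih, X ih = true → ih (2 ^ j * 2) rem last lt c2 w h L PR = true

theorem Step.mono {j : ℕ} {X Y : K1 → Bool} (h : ∀ ih, X ih = true → Y ih = true) : Step D j Y → Step D j X :=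
  fun ⟨a, b, c, d, e, f, g, k, h1, h2⟩ => ⟨a, b, c, d, e, f, g, k, h1, fun ih h3 => h2 ih (h ih h3)⟩

section

variable (h0 : D.F0) (h1 : D.F1) {j rem last lt c2 w : ℕ} {L : EL} {PR : PL} (I : Inv1 D j rem last lt c2 w L PR)
  (hj : j < D.n) (h : ℕ)
include h0 hj

theorem lt_of_O {i : ℕ} (h : D.O i < D.O j) (hi : i < D.n) : i < j := by
  by_contra! h2
  have := h0.srt j i h2 hi
  omega

theorem T_le (I : Inv1 D j rem last lt c2 w L PR) : D.T j - 1 < rem ∧ D.T j - 1 + 1 = D.T j := by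
  have := T_pos h0 hj
  have h2 : D.T j ≤ rem := I.rem ▸ single_le_sum (f := D.T) (fun _ _ => Nat.zero_le _) (mem_Ico.2 ⟨le_rfl, hj⟩)
  omega

theorem TE : (D.O j).totient = D.T j * D.E j := (Nat.div_mul_cancel (h0.edvd j hj)).symm

include h1

theorem prime_ord {q : ℕ} (hq : q.Prime) (h2 : q ∣ D.O j) (h3 : q ≠ D.O j) : ∃ i < j, i < D.n ∧ D.O i = q := by
  obtain ⟨y, hy⟩ := h2
  have h4 := h0.two j hj
  have h5 : y < D.O j := by
    rw [hy] at h4 ⊢
    exact lt_mul_of_one_lt_left (Nat.pos_of_mul_pos_left (by omega : 0 < q * y)) hq.one_lt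
  obtain ⟨k1, k2, -⟩ := h1.pw j hj y ⟨q, by rw [hy, mul_comm]⟩ h5.ne
  have h6 : D.O (D.Q j y) = q := Nat.eq_of_mul_eq_mul_right (Nat.pos_of_mul_pos_left (by omega : 0 < q * y))
    (k2.trans hy)
  exact ⟨_, lt_of_O h0 hj (h6 ▸ lt_of_le_of_ne (Nat.le_of_dvd (by omega) ⟨y, hy⟩) h3) k1, k1, h6⟩

include I

theorem add_step {lb an bp : ℕ} {pc PR' : PL} {c2' : ℕ}
    (E : Ent D [] j (2 ^ j) (D.O j) (D.T j) (D.E j) lb an bp pc) (hP : PI D (j + 1) PR') (hc : C2 D c2') :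
    Step D j fun ih => add ih (2 ^ j) rem c2' w h L (D.O j) (D.T j) (D.E j) lb an bp pc PR' := by
  refine ⟨_, _, _, _, _, _, _, _, ⟨hj, ?_, fun i hi => ?_, fun i hi hi' => ?_, h0.two j hj, hc, ?_, ?_, hP⟩,
    fun _ h => h⟩
  · rw [I.rem, sum_eq_sum_Ico_succ_bot hj]; exact Nat.add_sub_cancel_left ..
  · have := h0.srt i j (by omega) hj
    omega
  · have := h0.srt j i (by omega) hi'
    omega
  · obtain ⟨⟨a, ha⟩, h2⟩ := I.w
    rw [br]
    split_ifs with h3 <;> rw [Nat.beq_eq] at h3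
    · refine ⟨⟨a + 1, by rw [ha]; rfl⟩, fun i hi => ?_⟩
      have := h0.srt i j (by omega) hj
      have := h0.two j hj
      show _ ≠ w * 2
      omega
    · refine ⟨⟨a, ha⟩, fun i hi => ?_⟩
      rcases Nat.lt_succ_iff_lt_or_eq.1 hi with hi | rfl
      exacts [h2 i hi, h3]
  · rw [List.range_succ, List.reverse_append]
    exact ⟨E, updM_rep h1 hj E.han E.hm I.rep⟩

theorem has_E (hp : (D.O j).Prime) : (D.O j - 1) % D.T j = 0 ∧ (D.O j - 1) / D.T j = D.E j ∧
    (D.E j = 1 ∨ hasO L (D.E j) = true ∧ D.E j ≤ last) := by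
  have h2 := TE h0 hj
  rw [Nat.totient_prime hp] at h2
  have h3 := T_pos h0 hj
  refine ⟨by rw [h2, Nat.mul_mod_right], by rw [h2, Nat.mul_div_cancel_left _ h3],
    (h1.eo j hj hp).imp_right fun ⟨l, k1, k2⟩ => ?_⟩
  have h4 : D.E j ≤ D.T j * D.E j := Nat.le_mul_of_pos_left _ h3
  have h5 := lt_of_O h0 hj (show D.O l < D.O j by have := hp.pos; omega) k1
  exact k2 ▸ ⟨hasO_true I.rep (List.mem_reverse.2 (List.mem_range.2 h5)), I.lo l h5⟩

theorem prime_le (hp : (D.O j).Prime) : D.O j ≤ rem * last + 1 := by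
  obtain ⟨e4, e5⟩ := T_le h0 hj I
  obtain ⟨m1, m2, m3⟩ := has_E h0 h1 I hj hp
  have m4 := TE h0 hj
  rw [Nat.totient_prime hp] at m4
  have m5 : D.T j * D.E j ≤ rem * last := Nat.mul_le_mul (by omega) (by have := I.two; omega)
  omega

omit h1 I in
theorem not_A_prime (hp : (D.O j).Prime) (i : ℕ) : (0 : ℕ).testBit i ↔ D.A j i := by
  simp only [Nat.zero_testBit, Bool.false_eq_true, false_iff]
  rintro ⟨d, k1, k2, k3, -⟩
  have := mem_range.1 k1
  have := hp.eq_one_or_self_of_dvd d k3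
  omega

theorem newP_step (h2 : D.F2) (hp : (D.O j).Prime) (hn : D.O j ∉ pl PR) :
    Step D j fun ih => newP ih (2 ^ j) rem last c2 w h L PR (D.O j) := by
  obtain ⟨e1, e2, e3⟩ := has_E h0 h1 I hj hp
  obtain ⟨e4, e5⟩ := T_le h0 hj I
  have hX : ∀ ih, newP ih (2 ^ j) rem last c2 w h L PR (D.O j) = true →
      add ih (2 ^ j) rem c2 w h L (D.O j) (D.T j) (D.E j) (sq (D.O j)) 0 (D.O j) (.cons (D.O j) 0 .nil)
        (.cons (D.O j) 0 PR) = true ∧ (D.O j = 2 → ∀ z < rem, add ih (2 ^ j) rem (2 ^ (z + 2)) w h L (D.O j) (D.T j)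
          (D.E j) (2 ^ (z + 2)) 0 (D.O j) (.cons (D.O j) (2 ^ (z + 2)) .nil) (.cons (D.O j) (2 ^ (z + 2)) PR) = true) ∧
        (D.O j ≠ 2 → D.E j ≠ 1 → add ih (2 ^ j) rem c2 w h L (D.O j) (D.T j) (D.E j) (D.O j) 0 (D.O j)
          (.cons (D.O j) (D.O j) .nil) (.cons (D.O j) (D.O j) PR) = true) := fun ih hX => by
    unfold newP at hX
    rw [bimp, ble_dec, decide_eq_true (p := _ ≤ (Nat.mul rem last).succ) (prime_le h0 h1 I hj hp), Bool.not_true, Bool.false_or, bimp, bor,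
      beq_dec, beq_dec, Bool.or_eq_true, Bool.not_eq_true', Bool.or_eq_false_iff] at hX
    have k1 := allLt_true e4 (hX.resolve_left fun k => by
      simp only [decide_eq_false_iff_not] at k
      have := Nat.ModEq.pow_totient (((Nat.coprime_primes Nat.prime_two hp).2 (Ne.symm k.2)))
      rw [Nat.totient_prime hp, Nat.ModEq, Nat.mod_eq_of_lt hp.one_lt] at this
      exact k.1 this)
    simp only [Nat.succ_eq_add_one, e5, Nat.sub_eq, ndiv, nmod, e1, e2] at k1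
    rw [bimp, bimp, bor, band, br, beq_dec, beq_dec, bor] at k1
    have k2 : (decide (D.E j = 1) || hasO L (D.E j)) = true := by
      rcases e3 with e | e <;> simp [e]
    simp only [k2, Bool.not_true, Bool.false_or, Bool.and_eq_true, decide_true] at k1
    refine ⟨k1.1, fun k3 z hz => ?_, fun k3 k4 => ?_⟩
    · exact allLt_true hz ((if_pos (decide_eq_true k3)).symm.trans k1.2)
    · simpa [k4] using (if_neg (by simpa using k3)).symm.trans k1.2
  have hE : ∀ lb cap, lb ∣ D.C j → PE D (j + 1) (D.O j) cap →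
      Ent D [] j (2 ^ j) (D.O j) (D.T j) (D.E j) lb 0 (D.O j) (.cons (D.O j) cap .nil) ∧
        PI D (j + 1) (.cons (D.O j) cap PR) := fun lb cap k1 k2 =>
    ⟨⟨rfl, rfl, rfl, rfl, k1, fun _ h => absurd h List.not_mem_nil, not_A_prime h0 hj hp,
      Or.inr ⟨hp, 1, (pow_one _).symm⟩, fun q hq k => Or.inl ((Nat.prime_dvd_prime_iff_eq hq hp).1 k),
      fun e => (k2.dvd e).2, trivial⟩, List.nodup_cons.2 ⟨hn, I.pr.nd⟩, fun i hi k => by
        rcases Nat.lt_succ_iff_lt_or_eq.1 hi with hi | rfl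
        exacts [List.mem_cons_of_mem _ (I.pr.mem i hi k), List.mem_cons_self], k2, I.pr.all.imp fun _ _ => PE.mono⟩
  have hex : ∃ i < j + 1, i < D.n ∧ D.O i = D.O j := ⟨j, Nat.lt_succ_self j, hj, rfl⟩
  have hg : D.O j ∣ D.g := (h0.odvd j hj).trans (C_dvd h0 hj)
  by_cases k : D.O j = 2
  · rcases h2.mode (k ▸ hg) with m | ⟨c, m1, m2, m3, m4, m5⟩
    · have k1 : ∀ l < D.n, ∀ a, D.O l = D.O j ^ a → sq (D.O j) ∣ D.C l := fun l hl a ha => by
        rw [k] at ha ⊢; exact (m l hl a ha).1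
      obtain ⟨E, P⟩ := hE _ 0 (k1 j hj 1 (pow_one _).symm) ⟨hp, hex, fun _ _ l hl a ha => (m l hl a ha).2,
        fun e => absurd rfl e, fun _ => k1, fun e => absurd rfl e, fun e => absurd rfl e⟩
      exact Step.mono (fun ih k => (hX ih k).1) (add_step h0 h1 I hj h E P I.c2)
    · obtain ⟨l, k1, k2, k3⟩ := h1.cen 2 (c + 1) Nat.prime_two m1
      obtain rfl := m5 l k1 j hj k2 k
      have k4 : 2 ^ (c + 2) ≠ 0 := by positivity
      obtain ⟨E, P⟩ := hE _ (2 ^ (c + 2)) k3 ⟨hp, hex, fun e => absurd e k4, fun _ => ⟨m1, by rw [k]; exact m2⟩,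
        fun e => absurd e k4, fun _ i hi i' hi' e e' => m5 i hi i' hi' (e.trans k) (e'.trans k),
        fun _ i hi _ _ _ => m4 i hi⟩
      refine Step.mono (fun ih k' => (hX ih k').2.1 k c ?_) (add_step h0 h1 I hj h E P (Or.inr ⟨c, rfl, m3⟩))
      choose! f f1 f2 using m3
      have k5 : ∀ i < l, False := fun i hi => by
        have k6 := h0.srt i l hi.le hj
        have k7 := h0.two i (hi.trans hj)
        have k8 : D.O i = D.O l := by omega
        exact hn (k8 ▸ I.pr.mem i hi (k8 ▸ hp))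
      have k6 : (range (c + 1)).card ≤ (Ico l D.n).card := card_le_card_of_injOn f (fun i hi => mem_Ico.2
        ⟨le_of_not_gt (k5 _), f1 i (Nat.le_of_lt_succ (mem_range.1 hi))⟩) fun a ha b hb e => by
          have := (f2 a (Nat.le_of_lt_succ (mem_range.1 ha))).symm.trans
            (e ▸ f2 b (Nat.le_of_lt_succ (mem_range.1 hb)))
          simpa using this
      rw [card_range] at k6
      rw [I.rem]
      exact k6.trans ((card_eq_sum_ones _).trans_le (sum_le_sum fun i hi => T_pos h0 (mem_Ico.1 hi).2))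
  · have k0 : sq (D.O j) = D.O j * D.O j := by rw [sq, br, if_neg (by simpa using k)]; rfl
    by_cases k1 : D.O j * D.O j ∣ D.g
    · have k2 : ∀ l < D.n, ∀ a, D.O l = D.O j ^ a → sq (D.O j) ∣ D.C l := k0 ▸ h1.big _ hp k1
      obtain ⟨E, P⟩ := hE _ 0 (k2 j hj 1 (pow_one _).symm) ⟨hp, hex, fun _ e => absurd e k,
        fun e => absurd rfl e, fun _ => k2, fun e => absurd rfl e, fun e => absurd rfl e⟩
      exact Step.mono (fun ih k => (hX ih k).1) (add_step h0 h1 I hj h E P I.c2)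
    · have k2 : ∀ l < D.n, ∀ a, D.O l = D.O j ^ a → D.O l ≠ D.O j → D.O j * D.O j ∣ D.O l := fun l hl a ha e => by
        have := h0.two l hl
        rw [ha, ← pow_two]
        refine pow_dvd_pow _ ?_
        rcases a with _ | _ | a
        · rw [pow_zero] at ha; omega
        · exact absurd (ha.trans (pow_one _)) e
        · omega
      obtain ⟨E, P⟩ := hE _ (D.O j) (h0.odvd j hj) ⟨hp, hex, fun e => absurd e hp.ne_zero, fun _ => ⟨hg, k1⟩,
        fun e => absurd e hp.ne_zero, fun _ i hi i' hi' e e' => ((h1.small _ hp k1 i' hi' e').2 i hi e),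
        fun _ l hl a ha e _ => k1 ((k2 l hl a ha e).trans ((h0.odvd l hl).trans (C_dvd h0 hl)))⟩
      exact Step.mono (fun ih k' => (hX ih k').2.2 k (h1.small _ hp k1 j hj rfl).1) (add_step h0 h1 I hj h E P I.c2)

omit h0 h1 hj I in
theorem par_one {la : List ℕ} {p o t i : ℕ} (k1 : D.O i * p = o) (k2 : D.T i ∣ t) (an : ℕ) :
    ∀ {U : EL} {l : List ℕ}, RepU D la U l → i ∈ l → ∃ an', (∀ x, an'.testBit x ↔ D.A i x) ∧ ∀ ih : ℕ → Bool,
      EL.rec (motive := fun _ => Bool) true (fun b' o' t' _ _ an' _ _ _ ih2 => Bool.rec (motive := fun _ => Bool) false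
        ih2 (Bool.rec (motive := fun _ => Bool) true (Bool.rec (motive := fun _ => Bool) true
          (ih (Nat.lor an (Nat.lor b' an'))) (Nat.beq (t % t') 0)) (Nat.beq (o' * p) o))) U = true →
        ih (an ||| (2 ^ i ||| an')) = true
  | .nil, [], _, h => absurd h List.not_mem_nil
  | .nil, _ :: _, h, _ => h.elim
  | .cons .., [], h, _ => h.elim
  | .cons b' o' t' _ _ an' _ _ r, x :: l, ⟨E, hR⟩, hi => by
    rcases List.mem_cons.1 hi with rfl | hi
    · refine ⟨an', E.han, fun ih h => ?_⟩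
      have := (Bool.and_eq_true_iff.1 ((band _ _).symm.trans h)).1
      rw [E.ho, E.ht, E.hb, k1, Nat.mod_eq_zero_of_dvd k2, Nat.beq_refl o] at this
      exact this
    · obtain ⟨a, k3, k4⟩ := par_one k1 k2 an hR hi
      exact ⟨a, k3, fun ih h => k4 ih (Bool.and_eq_true_iff.1 ((band _ _).symm.trans h)).2⟩

theorem par_true : ∀ (pc : PL) (an : ℕ), (∀ p ∈ pl pc, 1 < p ∧ p ∣ D.O j ∧ p ≠ D.O j) →
    ∃ an' : ℕ, (∀ x, an'.testBit x ↔ an.testBit x ∨ ∃ p ∈ pl pc, D.Q j p = x ∨ D.A (D.Q j p) x) ∧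
      ∀ k : ℕ → Bool, par L (D.O j) (D.T j) k pc an = true → k an' = true
  | .nil, an, _ => ⟨an, by simp [pl], fun _ h => h⟩
  | .cons p c r, an, h => by
    obtain ⟨k1, k2, k3⟩ := h p List.mem_cons_self
    obtain ⟨m1, m2, m3, -⟩ := h1.pw j hj p k2 k3
    have m4 : D.Q j p < j := lt_of_O h0 hj (by
      have := h0.two _ m1
      rw [← m2]; exact lt_mul_of_one_lt_right (by omega) k1) m1
    obtain ⟨a, k4, k5⟩ := par_one m2 m3 an I.rep (List.mem_reverse.2 (List.mem_range.2 m4))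
    obtain ⟨b, k6, k7⟩ := par_true r (an ||| (2 ^ D.Q j p ||| a)) fun q hq => h q (List.mem_cons_of_mem _ hq)
    refine ⟨b, fun x => ?_, fun k hk => k7 k (k5 _ hk)⟩
    simp only [k6, Nat.testBit_or, Bool.or_eq_true, k4, Nat.testBit_two_pow, decide_eq_true_eq, pl, List.mem_cons,
      exists_eq_or_imp, or_assoc]

theorem cmp_step {pc : PL} {lb bp : ℕ} (hn : ¬ (D.O j).Prime) (k1 : (pl pc).Nodup)
    (k2 : ∀ q, q ∈ pl pc ↔ q.Prime ∧ q ∣ D.O j) (k3 : Caps D.g pc) (k4 : lb ∣ D.C j)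
    (k5 : bp = 1 ∨ bp.Prime ∧ ∃ a, D.O j = bp ^ a) :
    Step D j fun ih => cmp ih (2 ^ j) rem last lt c2 w h L PR (D.O j) pc lb bp := by
  have h2 := h0.two j hj
  obtain ⟨an, m1, m2⟩ := par_true h0 h1 I hj pc 0 fun p hp =>
    ⟨((k2 p).1 hp).1.one_lt, ((k2 p).1 hp).2, fun e => hn (e ▸ ((k2 p).1 hp).1)⟩
  refine Step.mono (fun ih hX => ?_) (add_step h0 h1 I hj h (an := an) (lb := lb) (bp := bp) (pc := pc) (PR' := PR)
    ⟨rfl, rfl, rfl, rfl, k4, fun _ h => absurd h List.not_mem_nil, fun x => ?_, k5,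
      fun q hq e => pmem ((k2 q).2 ⟨hq, e⟩), k3⟩ ⟨I.pr.nd, fun i hi e => ?_, I.pr.all.imp fun _ _ => PE.mono⟩ I.c2)
  · obtain ⟨e4, e5⟩ := T_le h0 hj I
    unfold cmp at hX
    have := allLt_true e4 hX
    simp only [Nat.succ_eq_add_one, e5, ndiv, nmod, phi_tot (by omega) k1 k2, TE h0 hj, Nat.mul_mod_right,
      Nat.mul_div_cancel_left _ (T_pos h0 hj)] at this
    rw [bimp, bimp, bor, nb_eq, beq_dec, beq_dec, ble_dec] at this
    have e6 := (I.hi j le_rfl hj).2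
    refine m2 (fun an => add ih (2 ^ j) rem c2 w h L (D.O j) (D.T j) (D.E j) lb an bp pc PR) ?_
    by_cases e : D.O j = last
    · simpa [e6 e] using this
    · simpa [e] using this
  · simp only [m1, Nat.zero_testBit, Bool.false_eq_true, false_or, k2]
    constructor
    · rintro ⟨p, ⟨hp, m3⟩, rfl | ⟨d, m4, m5, m6, rfl⟩⟩
      · exact ⟨p, mem_range.2 (lt_of_le_of_ne (Nat.le_of_dvd (by omega) m3) fun e => hn (e ▸ hp)), hp.one_lt, m3, rfl⟩
      · have m7 := (h1.pw j hj p m3 fun e => hn (e ▸ hp)).2.1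
        have m8 : p * d < D.O j := by rw [← m7, mul_comm]; exact Nat.mul_lt_mul_of_pos_right (mem_range.1 m4) hp.pos
        have m9 : p * d ∣ D.O j := by rw [← m7, mul_comm]; exact Nat.mul_dvd_mul_right m6 p
        exact ⟨p * d, mem_range.2 m8, one_lt_mul'' hp.one_lt m5, m9, (h1.pp j hj p d m9 m8.ne).symm⟩
    · rintro ⟨d, m4, m5, m6, rfl⟩
      obtain ⟨p, hp, y, rfl⟩ := Nat.exists_prime_and_dvd m5.ne'
      have m3 := (dvd_mul_right p y).trans m6
      refine ⟨p, ⟨hp, m3⟩, ?_⟩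
      by_cases e : y = 1
      · exact Or.inl (by rw [e, mul_one])
      have m7 := (h1.pw j hj p m3 fun e => hn (e ▸ hp)).2.1
      have m8 := mem_range.1 m4
      refine Or.inr ⟨y, mem_range.2 (Nat.lt_of_mul_lt_mul_right (a := p) (by rw [m7, mul_comm]; exact m8)), ?_,
        Nat.dvd_of_mul_dvd_mul_right hp.pos (by rw [m7, mul_comm]; exact m6), h1.pp j hj p y m6 m8.ne⟩
      rcases y with _ | _ | y <;> simp_all
  · rcases Nat.lt_succ_iff_lt_or_eq.1 hi with hi | rfl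
    exacts [I.pr.mem i hi e, absurd e hn]

theorem cand_step (h2 : D.F2) :
    Step D j fun ih => cand ih (2 ^ j) rem last lt c2 w h L PR (D.O j) (flt PR (D.O j)) := by
  obtain ⟨k1, k2⟩ := flt_spec (D.O j) PR I.pr.all
  have k3 : (pl (flt PR (D.O j))).Nodup := k2 ▸ I.pr.nd.filter _
  have k4 : ∀ q ∈ pl (flt PR (D.O j)), q.Prime ∧ q ∣ D.O j := fun q hq =>
    ⟨(k1.mem hq).elim fun _ h => h.pr, by
      rw [k2] at hq; exact of_decide_eq_true (List.mem_filter.1 hq).2⟩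
  have k5 : ∀ q, q.Prime → q ∣ D.O j → q ≠ D.O j → q ∈ pl (flt PR (D.O j)) := fun q hq e e' => by
    obtain ⟨i, m1, -, rfl⟩ := prime_ord h0 h1 hj hq e e'
    exact k2 ▸ List.mem_filter.2 ⟨I.pr.mem i m1 hq, decide_eq_true e⟩
  have k6 : D.O j ∈ pl PR → D.O j ∈ pl (flt PR (D.O j)) := fun e => k2 ▸ List.mem_filter.2 ⟨e, by simp⟩
  have k7 := caps_of k1
  have ht := h0.two j hj
  generalize flt PR (D.O j) = pc at k1 k3 k4 k5 k6 k7 ⊢
  rcases pc with _ | ⟨p, cap, r⟩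
  · refine newP_step h0 h1 I hj h h2 ?_ fun e => List.not_mem_nil (k6 e)
    obtain ⟨q, hq, e⟩ := Nat.exists_prime_and_dvd (show D.O j ≠ 1 by omega)
    by_contra k
    exact List.not_mem_nil (k5 q hq e fun e' => k (e' ▸ hq))
  obtain ⟨hp, hd⟩ := k4 p List.mem_cons_self
  by_cases e : p = D.O j
  · subst e
    obtain ⟨e1, e2, e3⟩ := has_E h0 h1 I hj hp
    obtain ⟨e4, e5⟩ := T_le h0 hj I
    obtain ⟨i, m1, m2, m3⟩ := k1.1.ex
    obtain rfl : cap = 0 := by
      by_contra k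
      exact m1.ne (k1.1.uni k i m2 j hj m3 rfl)
    refine Step.mono (fun ih hX => ?_) (add_step h0 h1 I hj h (an := 0) (lb := sq (D.O j)) (bp := D.O j)
      (pc := .cons (D.O j) 0 r) (PR' := PR) ⟨rfl, rfl, rfl, rfl, k1.1.big rfl j hj 1 (pow_one _).symm,
        fun _ h => absurd h List.not_mem_nil, not_A_prime h0 hj hp, Or.inr ⟨hp, 1, (pow_one _).symm⟩,
        fun q hq k => Or.inl ((Nat.prime_dvd_prime_iff_eq hq hp).1 k), k7⟩ ⟨I.pr.nd, fun x hx k => ?_,
          I.pr.all.imp fun _ _ => PE.mono⟩ I.c2)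
    · unfold cand at hX
      dsimp only at hX
      rw [Nat.beq_refl (D.O j)] at hX
      have := allLt_true e4 hX
      simp only [Nat.succ_eq_add_one, e5, Nat.sub_eq, ndiv, nmod, e1, e2] at this
      rw [bimp, bimp, bimp, bor, beq_dec, beq_dec, ble_dec] at this
      have e6 := (I.hi j le_rfl hj).2 (le_antisymm (m3 ▸ I.lo i m1) (I.hi j le_rfl hj).1)
      rcases e3 with e | e <;> simpa [e, e6] using this
    · rcases Nat.lt_succ_iff_lt_or_eq.1 hx with hx | rfl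
      exacts [I.pr.mem x hx k, m3 ▸ I.pr.mem i m1 (m3 ▸ k)]
  have hn : ¬ (D.O j).Prime := fun k => e ((Nat.prime_dvd_prime_iff_eq hp k).1 hd)
  have k8 : ∀ q, q ∈ pl (.cons p cap r) ↔ q.Prime ∧ q ∣ D.O j := fun q =>
    ⟨k4 q, fun k => k5 q k.1 k.2 fun e => hn (e ▸ k.1)⟩
  have e' : Nat.beq p (D.O j) = false := by rw [beq_dec]; exact decide_eq_false e
  rcases r with _ | ⟨p', cap', r⟩
  · have m1 : D.O j = p ^ (D.O j).primeFactorsList.length :=
      Nat.eq_prime_pow_of_unique_prime_dvd (by omega) fun hq k => by simpa [pl] using (k8 _).2 ⟨hq, k⟩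
    by_cases k : cap = 0
    · subst k
      refine Step.mono (fun ih hX => ?_) (cmp_step h0 h1 I hj h hn k3 k8 k7 (lb := lc (D.O j) (sq p))
        (lc_eq _ _ ▸ Nat.lcm_dvd (h0.odvd j hj) (k1.1.big rfl j hj _ m1)) (Or.inr ⟨hp, _, m1⟩))
      unfold cand at hX
      dsimp only at hX
      rwa [e'] at hX
    · refine Step.mono (fun ih hX => ?_) (cmp_step h0 h1 I hj h hn k3 k8 k7 (h0.odvd j hj) (Or.inr ⟨hp, _, m1⟩))
      unfold cand at hX
      dsimp only at hX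
      have m2 := mt Nat.dvd_of_mod_eq_zero (k1.1.top k j hj _ m1 (Ne.symm e))
      rw [e'] at hX
      dsimp only at hX
      rwa [beq_dec cap, decide_eq_false k, beq_dec, nmod, decide_eq_false m2] at hX
  · refine Step.mono (fun ih hX => ?_) (cmp_step h0 h1 I hj h hn k3 k8 k7 (h0.odvd j hj) (Or.inl rfl))
    unfold cand at hX
    dsimp only at hX
    rwa [e'] at hX

end

section

local infixl:65 " +. " => Nat.add
local infixl:65 " -. " => Nat.sub
local infixl:70 " *. " => Nat.mul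
local infixl:70 " /. " => Nat.div
local infix:50 " =. " => Nat.beq
local infix:50 " ≤. " => Nat.ble
local notation "n0" => nat_lit 0
local notation "n2" => nat_lit 2
local notation:10 "IF " c " THEN " a " ELSE " b:10 => Bool.rec b a c
local notation:30 a:31 " |. " b:30 => Bool.rec (motive := fun _ => Bool) b true a
local notation:30 a:31 " →. " b:30 => Bool.rec (motive := fun _ => Bool) true b a

/-- `body` with variable constants -/
noncomputable def bodyS (S S' : ℕ) (fin : EL → PL → Bool) (ih : K1) (bit rem last lt c2 w h : ℕ) (L : EL) (PR : PL) :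
    Bool :=
  (fun s0 => IF rem =. n0 THEN (S ≤. s0 →. (w *. n2 ≤. c2 |. fin L PR)) ELSE
    allLt (Nat.succ ((fun h1 => (fun h2 => IF w *. n2 ≤. c2 THEN mn h2 w ELSE h2)
        (IF S ≤. s0 THEN h1 ELSE mn h1 (S *. rem /. (S -. s0))))
        (Nat.succ (rem *. last) +. (last *. mxP PR -. Nat.succ (rem *. last)))) -. last)
      fun f => cand ih bit rem last lt c2 w h L PR (last +. f) (flt PR (last +. f)))
    (S' +. sumB L n0)

theorem body_eq : body = bodyS (nat_lit 1152921504606846976) (nat_lit 19215358410114117) := rfl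

end

theorem le_mn {a b c : ℕ} (h1 : c ≤ a) (h2 : c ≤ b) : c ≤ mn a b := by
  show c ≤ a - (a - b); omega

theorem meas (h0 : D.F0) (h4 : D.F4) {j rem last lt c2 w : ℕ} {L : EL} {PR : PL} (I : Inv1 D j rem last lt c2 w L PR)
    {S S' : ℕ} (hS : S = 1152921504606846976) (hS' : S ≤ 60 * S') :
    S * D.g ≤ (S' + sumB L 0) * D.g + S * ∑ i ∈ Ico j D.n, D.T i * D.N i := by
  have k1 := sumB_ge h0 (l1 := 0) I.rep fun i hi => by
    have := (List.mem_range.1 (List.mem_reverse.1 hi)).trans_le I.le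
    exact ⟨this, C_pos h0 this⟩
  rw [← hS, sum_perm (List.reverse_perm _)] at k1
  have k2 := h0.sumN
  rw [← sum_range_add_sum_Ico _ I.le] at k2
  have k3 := Nat.mul_le_mul_left S' h4.sixty
  calc S * D.g = S * ∑ i ∈ range j, D.T i * D.N i + S + S * ∑ i ∈ Ico j D.n, D.T i * D.N i := by
        rw [← k2]; ring
    _ ≤ _ := by rw [add_mul]; linarith

theorem bodyS_step (h0 : D.F0) (h1 : D.F1) (h2 : D.F2) (h4 : D.F4) {j rem last lt c2 w : ℕ} {L : EL} {PR : PL}
    (I : Inv1 D j rem last lt c2 w L PR) (hj : j < D.n) (h : ℕ) {S S' : ℕ} (hS : S = 1152921504606846976)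
    (hS' : S ≤ 60 * S') (fn : EL → PL → Bool) :
    Step D j fun ih => bodyS S S' fn ih (2 ^ j) rem last lt c2 w h L PR := by
  refine Step.mono (fun ih hX => ?_) (cand_step h0 h1 I hj h h2)
  obtain ⟨e4, e5⟩ := T_le h0 hj I
  have e1 := (I.hi j le_rfl hj).1
  unfold bodyS at hX
  dsimp only at hX
  rw [beq_dec, decide_eq_false (by omega)] at hX
  have := allLt_true (i := D.O j - last) ?_ hX
  · simpa only [Nat.add_eq, Nat.add_sub_cancel' e1] using this
  refine Nat.sub_lt_sub_right e1 (Nat.lt_succ_of_le ?_)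
  have k1 : D.O j ≤ rem * last + 1 + (last * mxP PR - (rem * last + 1)) := by
    by_cases hp : (D.O j).Prime
    · have := prime_le h0 h1 I hj hp
      omega
    · have ht := h0.two j hj
      obtain ⟨p, hp', m1⟩ := Nat.exists_prime_and_dvd (show D.O j ≠ 1 by omega)
      have m2 : p ≠ D.O j := fun e => hp (e ▸ hp')
      obtain ⟨i, m3, -, m4⟩ := prime_ord h0 h1 hj hp' m1 m2
      obtain ⟨m5, m6, -⟩ := h1.pw j hj p m1 m2
      have m7 : D.Q j p < j := lt_of_O h0 hj (by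
        have := h0.two _ m5
        rw [← m6]; exact lt_mul_of_one_lt_right (by omega) hp'.one_lt) m5
      have := Nat.mul_le_mul (I.lo _ m7) (m4 ▸ le_mxP (I.pr.mem i m3 (m4 ▸ hp')))
      omega
  have k2 : ¬ S ≤ S' + sumB L 0 → D.O j ≤ S * rem / (S - (S' + sumB L 0)) := fun k => by
    rw [Nat.le_div_iff_mul_le (by omega)]
    refine Nat.le_of_mul_le_mul_right ?_ h0.gpos
    have m1 := meas h0 h4 I hS hS'
    have m2 : D.O j * ∑ i ∈ Ico j D.n, D.T i * D.N i ≤ rem * D.g := by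
      rw [I.rem, mul_sum, sum_mul]
      refine sum_le_sum fun i hi => ?_
      obtain ⟨m2, m3⟩ := mem_Ico.1 hi
      have m4 := h0.srt j i m2 m3
      have m5 := Nat.le_of_dvd (C_pos h0 m3) (h0.odvd i m3)
      rw [← NC h0 m3, mul_comm, mul_assoc]
      exact Nat.mul_le_mul_left _ (Nat.mul_le_mul_left _ (by omega))
    have m3 : (S - (S' + sumB L 0)) * D.g ≤ S * ∑ i ∈ Ico j D.n, D.T i * D.N i := by
      rw [Nat.sub_mul]; omega
    calc D.O j * (S - (S' + sumB L 0)) * D.g ≤ D.O j * (S * ∑ i ∈ Ico j D.n, D.T i * D.N i) := by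
          rw [mul_assoc]; exact Nat.mul_le_mul_left _ m3
      _ = S * (D.O j * ∑ i ∈ Ico j D.n, D.T i * D.N i) := by ring
      _ ≤ S * (rem * D.g) := Nat.mul_le_mul_left _ m2
      _ = _ := by ring
  have k3 : w * 2 ≤ c2 → D.O j ≤ w := fun k => by
    obtain ⟨⟨a, ha⟩, m1⟩ := I.w
    obtain ⟨c, m2, m3⟩ := I.c2.resolve_left fun e => by have := Nat.two_pow_pos (a + 1); omega
    rw [ha, m2, ← pow_succ, Nat.pow_le_pow_iff_right one_lt_two] at k
    obtain ⟨l, m4, m5⟩ := m3 a (by omega)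
    have := h0.srt j l (le_of_not_gt fun e => m1 l e (m5.trans ha.symm)) m4
    omega
  rw [br, br]
  simp only [Nat.ble_eq]
  split_ifs with m1 m2 m2
  exacts [le_mn k1 (k3 m1), le_mn (le_mn k1 (k2 m2)) (k3 m1), k1, le_mn k1 (k2 m2)]

theorem bodyS_fin (h0 : D.F0) (h4 : D.F4) {rem last lt c2 w : ℕ} {L : EL} {PR : PL}
    (I : Inv1 D D.n rem last lt c2 w L PR) {S S' : ℕ} (hS : S = 1152921504606846976) (hS' : S ≤ 60 * S')
    {fn : EL → PL → Bool} {ih : K1} {bit h : ℕ} (hX : bodyS S S' fn ih bit rem last lt c2 w h L PR = true) :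
    fn L PR = true := by
  have m1 := meas h0 h4 I hS hS'
  obtain rfl : rem = 0 := by simpa using I.rem
  rw [Ico_self, sum_empty, mul_zero, add_zero] at m1
  have m2 := Nat.le_of_mul_le_mul_right m1 h0.gpos
  have m3 : ¬ w * 2 ≤ c2 := fun k => by
    obtain ⟨⟨a, ha⟩, m1⟩ := I.w
    obtain ⟨c, m2, m3⟩ := I.c2.resolve_left fun e => by have := Nat.two_pow_pos (a + 1); omega
    rw [ha, m2, ← pow_succ, Nat.pow_le_pow_iff_right one_lt_two] at k
    obtain ⟨l, m4, m5⟩ := m3 a (by omega)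
    exact m1 l m4 (m5.trans ha.symm)
  have e : Bool.rec (motive := fun _ => Bool) true (Bool.rec (motive := fun _ => Bool) (fn L PR) true
    (Nat.ble (w * 2) c2)) (Nat.ble S (S' + sumB L 0)) = true := hX
  rwa [ble_dec, ble_dec, decide_eq_true m2, decide_eq_false m3] at e

theorem fin_true (h0 : D.F0) (h1 : D.F1) (h2 : D.F2) (h3 : D.F3) (h4 : D.F4) {rem last lt c2 w : ℕ} {L : EL} {PR : PL}
    (I : Inv1 D D.n rem last lt c2 w L PR) {kk : ℕ} (hk : kk + 1 = D.k) {acc : List (ℕ × List (ℕ × ℕ × ℕ))}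
    (h : fin kk acc L PR = true) : (∀ j < D.n, IsPrimePow (D.O j)) ∨ ∃ x ∈ acc, D.g = x.1 ∧ D.Acc x.2 := by
  have k1 : ∀ q, q.Prime → q ∣ D.g → q ∈ pl PR := fun q hq e => by
    obtain ⟨l, m1, m2, -⟩ := h1.cen q 0 hq (by simpa using e)
    exact m2 ▸ I.pr.mem l m1 (m2 ▸ hq)
  have k2 : ¬ lenP PR ≤ 2 := by
    have := h4.three.trans ((card_le_card (t := (pl PR).toFinset) fun q hq => List.mem_toFinset.2
      (k1 q (Nat.prime_of_mem_primeFactors hq) (Nat.dvd_of_mem_primeFactors hq))).trans (List.toFinset_card_le _))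
    rw [lenP_eq]; omega
  unfold fin at h
  rw [bor, bor, ble_dec, decide_eq_false k2, Bool.false_or, Bool.or_eq_true, nb_eq, Bool.not_eq_true'] at h
  refine h.imp (fun h j hj => no_mixed h0 I.rep h j (List.mem_reverse.2 (List.mem_range.2 hj)) hj) fun h => ?_
  obtain ⟨A, l, m1, m2, m3⟩ := node_true h0 h1 h3 h4 (by
    have := repU_rev L _ .nil [] I.rep trivial
    rwa [List.reverseAux_eq, List.reverse_reverse, List.append_nil] at this) h
  exact leaf_true h0 h1 h2 h3 h4 m1 m2 (prC_of h0 I.pr.all)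
    (fun q hq e => prodP_eq PR ▸ List.dvd_prod (k1 q hq e)) hk m3

theorem p1_true (h0 : D.F0) (h1 : D.F1) (h2 : D.F2) (h4 : D.F4) {fn : EL → PL → Bool} {ι : Type} {gt : ι → ℕ → ℕ → Bool} :
    ∀ (f : ℕ) {j rem last lt c2 w h : ℕ} {L : EL} {PR : PL} (J : ι → Prop), Inv1 D j rem last lt c2 w L PR →
      (∀ x, J x → p1 fn (gt x) f (2 ^ j) rem last lt c2 w h L PR = true) →
      (∀ hs : ℕ → ℕ, ∃ x, J x ∧ ∀ i, j ≤ i → gt x (2 ^ i) (hs i) = true) →
      ∃ rem last lt c2 w L PR, Inv1 D D.n rem last lt c2 w L PR ∧ fn L PR = true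
  | 0, _, _, _, _, _, _, _, _, _, _, _, k1, k2 => by
    obtain ⟨x, hx, -⟩ := k2 id
    exact absurd (k1 x hx) Bool.false_ne_true
  | f + 1, j, rem, last, lt, c2, w, h, L, PR, J, I, k1, k2 => by
    obtain ⟨S, S', hS, hS', e⟩ : ∃ S S', S = 1152921504606846976 ∧ S ≤ 60 * S' ∧ body = bodyS S S' :=
      ⟨_, _, rfl, by norm_num, body_eq⟩
    have k3 : ∀ x, J x → gt x (2 ^ j) h = true → bodyS S S' fn (p1 fn (gt x) f) (2 ^ j) rem last lt c2 w h L PR = true :=
      fun x hx e' => by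
        have : Bool.rec (motive := fun _ => Bool) true (body fn (p1 fn (gt x) f) (2 ^ j) rem last lt c2 w h L PR)
          (gt x (2 ^ j) h) = true := k1 x hx
        rwa [e', e] at this
    rcases I.le.lt_or_eq with hj | rfl
    · obtain ⟨rem', last', lt', c2', w', h', L', PR', I', k4⟩ := bodyS_step h0 h1 h2 h4 I hj h hS hS' fn
      refine p1_true h0 h1 h2 h4 f (h := h') (fun x => J x ∧ gt x (2 ^ j) h = true) I'
        (fun x hx => k4 _ (k3 x hx.1 hx.2)) fun hs => ?_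
      obtain ⟨x, m1, m2⟩ := k2 (Function.update hs j h)
      refine ⟨x, ⟨m1, by simpa using m2 j le_rfl⟩, fun i hi => ?_⟩
      simpa [Function.update_of_ne (show i ≠ j by omega)] using m2 i (by omega)
    · obtain ⟨x, m1, m2⟩ := k2 fun _ => h
      exact ⟨_, _, _, _, _, _, _, I, bodyS_fin h0 h4 I hS hS' (k3 x m1 (m2 _ le_rfl))⟩

theorem search (h0 : D.F0) (h1 : D.F1) (h2 : D.F2) (h3 : D.F3) (h4 : D.F4) {kk : ℕ} (hk : kk + 1 = D.k)
    {acc : List (ℕ × List (ℕ × ℕ × ℕ))} (h : Done kk acc) :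
    (∀ j < D.n, IsPrimePow (D.O j)) ∨ ∃ x ∈ acc, D.g = x.1 ∧ D.Acc x.2 := by
  obtain ⟨_, _, _, _, _, _, _, I, k⟩ := p1_true h0 h1 h2 h4 (fn := fin kk acc)
    (gt := fun x : ℕ × ℕ × ℕ × ℕ × ℕ × ℕ => gate x.1 x.2.1 x.2.2.1 x.2.2.2.1 x.2.2.2.2.1 x.2.2.2.2.2) 12 (j := 0)
    (rem := kk) (last := 2) (lt := 0) (c2 := 0) (w := 2) (h := 0) (L := .nil) (PR := .nil)
    (fun x => run3 kk acc x.1 x.2.1 x.2.2.1 x.2.2.2.1 x.2.2.2.2.1 x.2.2.2.2.2 = true)
    ⟨Nat.zero_le _, by have := h0.sumT; rw [← range_eq_Ico]; omega, fun _ h => absurd h (Nat.not_lt_zero _),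
      fun i _ hi => ⟨h0.two i hi, fun _ => Nat.zero_le _⟩, le_rfl, Or.inl rfl,
      ⟨⟨0, rfl⟩, fun _ h => absurd h (Nat.not_lt_zero _)⟩, trivial,
      ⟨List.nodup_nil, fun _ h => absurd h (Nat.not_lt_zero _), trivial⟩⟩ (fun _ h => h) fun hs => by
      obtain ⟨n1, k1, h⟩ := h
      obtain ⟨n2, k2, h⟩ := h _ (Nat.mod_lt (hs 4) k1)
      obtain ⟨n3, k3, h⟩ := h _ (Nat.mod_lt (hs 6) k2)
      refine ⟨(_, _, _, _, _, _), h _ (Nat.mod_lt (hs 8) k3), fun i _ => ?_⟩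
      have e : ∀ a, 2 ^ i = 2 ^ a → i = a := fun a e => Nat.pow_right_injective le_rfl e
      simp only [gate, br, Nat.beq_eq, nmod]
      split_ifs with m1 m2 m3
      · rw [e 4 m1]; exact Nat.beq_refl _
      · rw [e 6 m2]; exact Nat.beq_refl _
      · rw [e 8 m3]; exact Nat.beq_refl _
      · rfl
  exact fin_true h0 h1 h2 h3 h4 I hk k

end Cfsg.Agent.KC.RS
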