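import Cfsg.Agent.KC.Sem

/-! Soundness of the search over centraliser orders. -/

set_option autoImplicit false

namespace Cfsg.Agent.KC

open Finset

/-- all facts -/
structure All (D : Dat) : Prop where
  f0 : D.F0
  f1 : D.F1
  f2 : D.F2
  f3 : D.F3
  f4 : D.F4

variable {D : Dat} {s : St} {f : ℕ → ℕ}

/-- invariant of the second phase -/
structure Inv (D : Dat) (f : ℕ → ℕ) (us as : List ℕ) (a b last lo : ℕ) : Prop where
  perm : (us ++ as).Perm (List.range D.n)
  srt : us.Pairwise (· < ·)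
  dvd : ∀ j ∈ us, f j ∣ D.C j
  anc : ∀ j ∈ us, ∀ l ∈ as, D.A l j → D.C l ∣ f j
  frac : (a : ℚ) / b = (us.map fun j => (D.T j : ℚ) / D.C j).sum + 1 / D.g
  bpos : 0 < b
  lst : ∀ j ∈ us, last < D.C j ∨ last = D.C j ∧ D.O j ≤ lo
  one : 1 ≤ last

variable {us as : List ℕ} {a b last lo : ℕ}

theorem Inv.lt (I : Inv D f us as a b last lo) {j : ℕ} (hj : j ∈ us) : j < D.n :=
  List.mem_range.1 (I.perm.subset (List.mem_append_left _ hj))

theorem Inv.lt' (I : Inv D f us as a b last lo) {j : ℕ} (hj : j ∈ as) : j < D.n :=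
  List.mem_range.1 (I.perm.subset (List.mem_append_right _ hj))

theorem Inv.mem (I : Inv D f us as a b last lo) {j : ℕ} (hj : j < D.n) : j ∈ us ∨ j ∈ as :=
  List.mem_append.1 (I.perm.symm.subset (List.mem_range.2 hj))

theorem secR_mk (js : List ℕ) (i o t p c : ℕ) : secR (mE D s f js) (2 ^ i) o t p c =
    (js.map fun l => if (s.an l).testBit i = true ∧ ¬ p ∣ D.O l / o then D.T l / t * (c / f l) else 0).sum + 1 := by
  induction js with
  | nil => rfl
  | cons j js ih =>
    change (Bool.rec (motive := fun _ => ℕ) (Nat.add _ (secR (mE D s f js) (2 ^ i) o t p c))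
      (secR (mE D s f js) (2 ^ i) o t p c) _) = _
    psimp
    rw [ih, List.map_cons, List.sum_cons]
    by_cases h : (s.an j).testBit i = true <;> by_cases h' : p ∣ D.O j / o <;> simp [h, h', add_assoc]

theorem gcd_pw {p : ℕ} (hp : p.Prime) (c : ℕ) : ∃ b, c.gcd (p ^ 64) = p ^ b := by
  obtain ⟨b, -, h⟩ := (Nat.dvd_prime_pow hp).1 (Nat.gcd_dvd_right c (p ^ 64))
  exact ⟨b, h⟩

theorem Inv.sec (I : Inv D f us as a b last lo) (H : All D) (hs : ∀ j < D.n, StOK D s j) {i : ℕ} (hi : i ∈ us)
    (hr : ∀ l ∈ us, ¬ D.A l i) :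
    ¬ secBad (mE D s D.C as) (2 ^ i) (D.O i) (D.T i) (s.bp i) (D.C i) = true := fun h => by
  simp only [secBad] at h
  psimp at h
  obtain ⟨h1, -, h2, h3⟩ := h
  obtain ⟨hp, u, hu⟩ := (hs i (I.lt hi)).bp.resolve_left h1
  obtain ⟨v, hv⟩ := gcd_pw hp (D.C i)
  have h4 := H.f3.sec i (I.lt hi) _ u _ v hp hu
    (by rw [← hv, Nat.mul_div_cancel' (Nat.gcd_dvd_left _ _)]) h2
  rw [secR_mk] at h3
  apply h3
  convert h4 using 3 <;>
  · rw [sum_filter, ← sum_perm I.perm, List.map_append, List.sum_append,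
      List.sum_eq_zero (l := us.map _) (by
        simp only [List.mem_map]
        rintro _ ⟨l, hl, rfl⟩
        simp [hr l hl]), zero_add]
    rw [List.map_congr_left fun l hl => ?_]
    simp only [(hs l (I.lt' hl)).an]

theorem filter_perm {i : ℕ} (hn : us.Nodup) (hi : i ∈ us) : (i :: us.filter (· ≠ i)).Perm us := by
  rw [show us.filter (· ≠ i) = us.erase i by rw [hn.erase_eq_filter]; simp [bne]; rfl]
  exact (List.perm_cons_erase hi).symm

theorem Inv.rest (I : Inv D f us as a b last lo) (H : All D) {i : ℕ} (hi : i ∈ us) :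
    (a : ℚ) / b = D.T i / D.C i + (((us.filter (· ≠ i)).map fun j => (D.T j : ℚ) / D.C j).sum + 1 / D.g) ∧
    0 < ((us.filter (· ≠ i)).map fun j => (D.T j : ℚ) / D.C j).sum + 1 / D.g := by
  constructor
  · rw [I.frac, ← ((filter_perm (I.srt.imp ne_of_lt) hi).map _).sum_eq, List.map_cons, List.sum_cons, add_assoc]
  · have h1 : (0 : ℚ) < D.g := by exact_mod_cast H.f0.gpos
    refine add_pos_of_nonneg_of_pos (List.sum_nonneg ?_) (by positivity)
    simp only [List.mem_map]
    rintro _ ⟨l, -, rfl⟩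
    positivity

theorem Inv.big (I : Inv D f us as a b last lo) (H : All D) {i : ℕ} (hi : i ∈ us) : b * D.T i < a * D.C i := by
  obtain ⟨h1, h2⟩ := I.rest H hi
  have h3 : (0 : ℚ) < D.C i := by exact_mod_cast H.f0.cpos (I.lt hi)
  have h4 : (0 : ℚ) < b := by exact_mod_cast I.bpos
  have h5 : (D.T i : ℚ) / D.C i < a / b := by linarith
  rw [div_lt_div_iff₀ h3 h4, mul_comm] at h5
  exact_mod_cast h5

theorem Inv.step (I : Inv D f us as a b last lo) (H : All D) (hs : ∀ j < D.n, StOK D s j) {i : ℕ} (hi : i ∈ us)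
    (hr : ∀ l ∈ us, ¬ D.A l i) {l' o' : ℕ} (h1 : 1 ≤ l')
    (hl : ∀ j ∈ us, j ≠ i → l' < D.C j ∨ l' = D.C j ∧ D.O j ≤ o') {ih : EL → EL → ℕ → ℕ → ℕ → ℕ → Bool}
    (h : step ih (mE D s f us) (mE D s D.C as) a b (2 ^ i) (D.O i) (D.T i) (D.E i) (s.an i) (s.bp i) (s.pc i)
      (D.C i) l' o' = true) :
    ∃ f' us' as' a' b', Inv D f' us' as' a' b' l' o' ∧ ih (mE D s f' us') (mE D s D.C as') a' b' l' o' = true := by
  simp only [KC.step] at h
  psimp at h
  have h := h.resolve_left (I.sec H hs hi hr)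
  rw [upd_mk] at h
  have hc := H.f0.cpos (I.lt hi)
  have hb := I.bpos
  have hg : 0 < (a * D.C i - b * D.T i).gcd (b * D.C i) := Nat.gcd_pos_of_pos_right _ (by positivity)
  refine ⟨_, _, i :: as, _, _, ⟨?_, I.srt.filter _, fun j hj => ?_, fun j hj l hl ha => ?_, ?_, ?_,
    fun j hj => ?_, h1⟩, h⟩
  · exact List.perm_middle.trans (((filter_perm (I.srt.imp ne_of_lt) hi).append_right as).trans I.perm)
  · have hj := List.mem_of_mem_filter hj
    split_ifs with e
    · obtain ⟨-, -, h3, h4⟩ := H.f1.anc (I.lt hi) (((hs i (I.lt hi)).an j).1 e)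
      refine Nat.lcm_dvd (Nat.lcm_dvd (I.dvd j hj) h3) ?_
      have h5 : 0 < (D.E i * D.C i).gcd (D.E j) := Nat.gcd_pos_of_pos_right _ (H.f0.epos j (I.lt hj))
      refine (Nat.coprime_div_gcd_div_gcd h5).dvd_of_dvd_mul_left (Nat.dvd_of_mul_dvd_mul_right h5 ?_)
      rwa [Nat.div_mul_cancel (Nat.gcd_dvd_left _ _), mul_right_comm, Nat.div_mul_cancel (Nat.gcd_dvd_right _ _)]
    · exact I.dvd j hj
  · have hj := List.mem_of_mem_filter hj
    rcases List.mem_cons.1 hl with rfl | hl
    · rw [if_pos (((hs l (I.lt hi)).an j).2 ha)]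
      exact (Nat.dvd_lcm_right _ _).trans (Nat.dvd_lcm_left _ _)
    · split_ifs
      · exact (I.anc j hj l hl ha).trans ((Nat.dvd_lcm_left _ _).trans (Nat.dvd_lcm_left _ _))
      · exact I.anc j hj l hl ha
  · rw [Nat.cast_div_div_div_cancel_right (Nat.gcd_dvd_right _ _) (Nat.gcd_dvd_left _ _),
      Nat.cast_sub (I.big H hi).le, ← sub_eq_iff_eq_add'.2 (I.rest H hi).1]
    have h3 : (0 : ℚ) < D.C i := by exact_mod_cast hc
    have h4 : (0 : ℚ) < b := by exact_mod_cast hb
    push_cast
    field_simp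
  · exact Nat.div_pos (Nat.le_of_dvd (by positivity) (Nat.gcd_dvd_right _ _)) hg
  · exact hl j (List.mem_of_mem_filter hj) (by simpa using List.of_mem_filter hj)

theorem Inv.smooth (I : Inv D f us as a b last lo) (H : All D) {i : ℕ} (hi : i ∈ us)
    (hr : ∀ l ∈ us, ¬ D.A l i) {w q : ℕ} (e : D.C i = f i * w) (hq : q.Prime) (hw : q ∣ w) : q ∣ D.O i := by
  by_contra h
  have h0 : f i ≠ 0 := fun e0 => by have := H.f0.cpos (I.lt hi); simp [e0] at e; omega
  obtain ⟨l, hl, h1, h2, h3⟩ := H.f1.ch i (I.lt hi) q ((f i).factorization q) hq h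
    (by rw [e, pow_succ]; exact mul_dvd_mul (Nat.ordProj_dvd _ _) hw)
  have h4 : D.A l i := ⟨q, mem_range.2 (by
    rw [h1]; exact (Nat.lt_mul_iff_one_lt_right hq.pos).2 (H.f0.two i (I.lt hi))), hq.one_lt, ⟨_, h1⟩, h2⟩
  exact Nat.pow_succ_factorization_not_dvd h0 hq
    (h3.trans (I.anc i hi l ((I.mem hl).resolve_left fun hu => hr l hu h4) h4))

theorem ready (hs : ∀ j ∈ us, StOK D s j) {i : ℕ} :
    ¬ (orA (mE D s f us)).testBit i = true ↔ ∀ l ∈ us, ¬ D.A l i := by
  rw [orA_mk]
  exact ⟨fun h l hl ha => h ⟨l, hl, ((hs l hl).an i).2 ha⟩, fun h ⟨l, hl, ha⟩ => h l hl (((hs l hl).an i).1 ha)⟩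

theorem lp2_t {ih : EL → EL → ℕ → ℕ → ℕ → ℕ → Bool} {U A : EL} {mask hi : ℕ} {vs : List ℕ} {po pt i : ℕ}
    (hv : vs.Pairwise (· < ·)) (hi' : i ∈ vs) (hm : ¬ mask.testBit i = true)
    (h : lp2 ih U A a b last lo mask hi (mE D s f vs) po pt = true) :
    (D.O i = po ∧ D.T i = pt) ∨ (∃ j ∈ vs, j < i ∧ D.O i = D.O j ∧ D.T i = D.T j) ∨
      gen hi (last + (D.T i * b / a + 1 - last)) (fun c => Bool.rec (motive := fun _ => Bool)
        (step ih U A a b (2 ^ i) (D.O i) (D.T i) (D.E i) (s.an i) (s.bp i) (s.pc i) c c (D.O i)) true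
        (Bool.rec (motive := fun _ => Bool) false (Nat.ble (lo + 1) (D.O i)) (Nat.beq c last))) (s.pc i) (f i) = true := by
  induction vs generalizing po pt with
  | nil => simp at hi'
  | cons j vs iv =>
    have h' : (Bool.rec (motive := fun _ => Bool) false (lp2 ih U A a b last lo mask hi (mE D s f vs) (D.O j) (D.T j))
      (Bool.rec (motive := fun _ => Bool) true (Bool.rec (motive := fun _ => Bool) (gen _ _ _ _ _) true
      (Bool.rec (motive := fun _ => Bool) false (Nat.beq (D.T j) pt) (Nat.beq (D.O j) po)))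
      (Nat.beq (Nat.land (2 ^ j) mask) 0))) = true := h
    rw [brec, and_t, brec, imp_t, brec, or_t, brec, and_t] at h'
    simp only [Nat.beq_eq, ld, land0] at h'
    rcases List.mem_cons.1 hi' with rfl | e
    · exact (h'.1 hm).imp_right Or.inr
    · rcases iv hv.of_cons e h'.2 with e1 | ⟨l, hl, e1⟩ | e1
      · exact Or.inr (Or.inl ⟨j, List.mem_cons_self, List.rel_of_pairwise_cons hv e, e1⟩)
      · exact Or.inr (Or.inl ⟨l, List.mem_cons_of_mem _ hl, e1⟩)
      · exact Or.inr (Or.inr e1)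

theorem fx_t {ih : EL → EL → ℕ → ℕ → ℕ → ℕ → Bool} {U A : EL} {mask : ℕ} {els : Bool} {vs : List ℕ}
    (h : fx ih U A a b mask els (mE D s f vs) = true) : els = true ∨ ∃ i ∈ vs, ¬ mask.testBit i = true ∧
      capd (s.pc i) (f i) = true ∧ (b * D.T i + 1 ≤ a * f i →
        step ih U A a b (2 ^ i) (D.O i) (D.T i) (D.E i) (s.an i) (s.bp i) (s.pc i) (f i) 1 0 = true) := by
  induction vs with
  | nil => exact Or.inl h
  | cons j vs iv =>
    have h' : (Bool.rec (motive := fun _ => Bool) (fx ih U A a b mask els (mE D s f vs)) _ _) = true := h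
    rw [brec] at h'
    split_ifs at h' with e
    · psimp at h' e
      exact Or.inr ⟨j, List.mem_cons_self, e.1, e.2, h'⟩
    · exact (iv h').imp_right fun ⟨i, hi, e⟩ => ⟨i, List.mem_cons_of_mem _ hi, e⟩

theorem capd_t {pc : PL} {m : ℕ} (h : capd pc m = true) : ∀ x ∈ pc.l, x.2 ∣ m := by
  induction pc with
  | nil => simp [PL.l]
  | cons p c r ih =>
    have h' : (Bool.rec (motive := fun _ => Bool) false (capd r m) _) = true := h
    psimp at h'
    exact List.forall_mem_cons.2 ⟨h'.1, ih h'.2⟩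

theorem exists_min (hn : us ≠ []) : ∃ i ∈ us, ∀ j ∈ us, D.C i < D.C j ∨ D.C i = D.C j ∧
    (D.O j < D.O i ∨ D.O j = D.O i ∧ i ≤ j) := by
  induction us with
  | nil => exact absurd rfl hn
  | cons x xs ih =>
    by_cases e : xs = []
    · exact ⟨x, by simp [e]⟩
    · obtain ⟨i, hi, h⟩ := ih e
      by_cases h1 : D.C i < D.C x ∨ D.C i = D.C x ∧ (D.O x < D.O i ∨ D.O x = D.O i ∧ i ≤ x)
      · exact ⟨i, List.mem_cons_of_mem _ hi, List.forall_mem_cons.2 ⟨h1, h⟩⟩
      · exact ⟨x, List.mem_cons_self, List.forall_mem_cons.2 ⟨by omega, fun j hj => by have := h j hj; omega⟩⟩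

theorem node_t (H : All D) (hs : ∀ j < D.n, StOK D s j) {lf : EL → ℕ → Bool} {u : ℕ}
    (I : Inv D f us as a b last lo) (h : node lf u (mE D s f us) (mE D s D.C as) a b last lo = true) :
    ∃ as : List ℕ, as.Perm (List.range D.n) ∧ lf (mE D s D.C as) D.g = true := by
  induction u generalizing f us as a b last lo with
  | zero => exact absurd h (by simp [node])
  | succ u ih =>
    have h' : nbd lf (node lf u) (mE D s f us) (mE D s D.C as) a b last lo = true := h
    unfold nbd at h'
    simp only [brec, dv, md, Nat.add_eq, Nat.sub_eq, Nat.mul_eq, Nat.beq_eq, Nat.ble_eq, Nat.succ_eq_add_one,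
      mod0] at h'
    have hg : (0 : ℚ) < D.g := by exact_mod_cast H.f0.gpos
    have hb : (0 : ℚ) < b := by exact_mod_cast I.bpos
    rw [sumT_mk] at h'
    by_cases e : us = []
    · subst e
      have h1 := I.frac
      simp only [List.map_nil, List.sum_nil, zero_add, if_true, imp_t] at h1 h'
      rw [div_eq_div_iff hb.ne' hg.ne', one_mul] at h1
      have h2 : a * D.g = b := by exact_mod_cast h1
      have h3 : 0 < a := Nat.pos_of_ne_zero fun e => by have := I.bpos; simp [e] at h2; omega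
      have h4 := h' ⟨_, h2.symm⟩
      rw [← h2, Nat.mul_div_cancel_left _ h3] at h4
      exact ⟨as, I.perm, h4⟩
    obtain ⟨i, hi, hm⟩ := exists_min (D := D) e
    have hT : D.T i ≤ (us.map D.T).sum := List.single_le_sum (by simp) _ (List.mem_map_of_mem hi)
    have hT0 := H.f0.tpos (I.lt hi)
    have hl : ∀ j ∈ us, last ≤ D.C j := fun j hj => by have := I.lst j hj; omega
    have h6 := H.f4.six H.f0 (I.lt hi)
    have hc := H.f0.cpos (I.lt hi)
    rw [if_neg (by omega), imp_t] at h'
    replace h' := h' (by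
      have h1 := sumB_mk (s := s) (l1 := last - 1) fun j hj =>
        ⟨I.dvd j hj, by have := hl j hj; have := I.one; omega⟩
      have h2 : 6 * (last + (10 - last)) ≤ D.g := by have := H.f4.sixty; have := hl i hi; omega
      have h3 : 0 < 6 * (last + (10 - last)) := by omega
      generalize 6 * (last + (10 - last)) = y at h2 h3
      have h4 : (1 : ℚ) / D.g * 1152921504606846976 ≤ (1152921504606846976 / y + 1 : ℕ) := by
        rw [div_mul_eq_mul_div, div_le_iff₀ hg, one_mul]
        exact_mod_cast (Nat.lt_mul_div_succ _ h3).le.trans (by rw [mul_comm]; exact Nat.mul_le_mul_left _ h2)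
      have h5 : 1152921504606846976 * (a : ℚ) ≤
          ((sumB (mE D s f us) (last - 1) : ℕ) + (1152921504606846976 / y + 1 : ℕ)) * b := by
        rw [← div_le_iff₀ hb, mul_comm, ← div_mul_eq_mul_div, I.frac, add_mul]
        exact add_le_add h1 h4
      exact_mod_cast h5)
    have hs' : ∀ j ∈ us, StOK D s j := fun j hj => hs j (I.lt hj)
    have key : lp2 (node lf u) (mE D s f us) (mE D s D.C as) a b last lo (orA (mE D s f us))
        ((6 * (us.map D.T).sum + 1) * b / (6 * a)) (mE D s f us) 0 0 = true →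
        ∃ as : List ℕ, as.Perm (List.range D.n) ∧ lf (mE D s D.C as) D.g = true := fun h1 => by
      have hr : ∀ l ∈ us, ¬ D.A l i := fun l hl ha => by
        obtain ⟨-, h2, h3, -⟩ := H.f1.anc (I.lt hl) ha
        have := Nat.le_of_dvd hc h3
        have := hm l hl
        omega
      have hbig := I.big H hi
      have ha : 0 < a := Nat.pos_of_ne_zero fun e => by simp [e] at hbig
      rcases lp2_t I.srt hi ((ready hs').2 hr) h1 with h2 | ⟨j, hj, h2, h3, h4⟩ | h2
      · omega
      · have := H.f0.srt j i h2.le (I.lt hi)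
        have := hm j hj
        omega
      obtain ⟨w, hw⟩ := I.dvd i hi
      have h3 := gen_t (c := D.C i) (by
          have : D.T i * b / a < D.C i := (Nat.div_lt_iff_lt_mul ha).2 (by rwa [mul_comm, mul_comm (D.C i)])
          have := hl i hi
          omega) (by
          rw [Nat.le_div_iff_mul_le (by omega)]
          have h3 : (0 : ℚ) < D.C i := by exact_mod_cast hc
          have h4 : (us.map fun j => (D.T j : ℚ) / D.C j).sum ≤ ((us.map D.T).sum : ℕ) / D.C i := by
            rw [Nat.cast_list_sum, List.map_map, div_eq_mul_inv, ← List.sum_map_mul_right]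
            refine List.sum_le_sum fun j hj => ?_
            have h5 : (D.C i : ℚ) ≤ D.C j := by exact_mod_cast (by have := hm j hj; omega)
            exact div_le_div_of_nonneg_left (by positivity) h3 h5
          have h5 : (1 : ℚ) / D.g ≤ 1 / (6 * D.C i) :=
            one_div_le_one_div_of_le (by positivity) (by exact_mod_cast h6)
          have h7 : (a : ℚ) / b ≤ (6 * ((us.map D.T).sum : ℕ) + 1) / (6 * D.C i) := by
            rw [I.frac, add_div, mul_div_mul_left _ _ (by norm_num)]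
            exact add_le_add h4 h5
          rw [div_le_div_iff₀ hb (by positivity)] at h7
          have h8 : a * (6 * D.C i) ≤ (6 * (us.map D.T).sum + 1) * b := by exact_mod_cast h7
          linarith) hc (H.f0.cd (I.lt hi)) _
        (fun x hx => ((hs' i hi).pc x hx).c2) hw
        (fun q hq hd => (hs' i hi).all q hq (I.smooth H hi hr hw hq hd)) h2
      psimp at h3
      obtain ⟨f', us', as', a', b', I', h4⟩ := I.step H hs hi hr (o' := D.O i) hc
        (fun j hj _ => by have := hm j hj; omega) (h3.resolve_left (by have := I.lst i hi; omega))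
      exact ih I' h4
    split_ifs at h' with e1
    · rcases fx_t h' with h1 | ⟨j, hj, h1, h2, h3⟩
      · exact key h1
      · have hr := (ready hs').1 h1
        obtain ⟨w, hw⟩ := I.dvd j hj
        have hw1 : w = 1 := by
          by_contra h4
          obtain ⟨q, hq, hd⟩ := Nat.exists_prime_and_dvd h4
          obtain ⟨cp, h5⟩ := (hs' j hj).all q hq (I.smooth H hj hr hw hq hd)
          have h7 := capd_t h2 _ h5
          refine ((hs' j hj).pc _ h5).c2 (fun e0 => ?_) ((mul_dvd_mul h7 hd).trans (hw ▸ H.f0.cd (I.lt hj)))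
          have := H.f0.cpos (I.lt hj)
          simp only at e0 h7
          rw [e0, zero_dvd_iff] at h7
          simp [h7] at hw
          omega
        rw [hw1, mul_one] at hw
        rw [← hw] at h3
        obtain ⟨f', us', as', a', b', I', h4⟩ := I.step H hs hj hr le_rfl (fun l hl _ => Or.inl
          ((H.f0.two l (I.lt hl)).trans (Nat.le_of_dvd (H.f0.cpos (I.lt hl)) (H.f0.odvd l (I.lt hl)))))
          (h3 (I.big H hj))
        exact ih I' h4
    · exact key h'

end Cfsg.Agent.KC
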