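import Cfsg.Agent.KC.Prog
import Cfsg.Agent.KC.Spec

/-! Soundness of the character-row search `ct`. -/

set_option autoImplicit false

namespace Cfsg.Agent.KC.RS

open Finset

theorem br {α : Type} (a b : α) (c : Bool) : @Bool.rec (fun _ => α) b a c = if c = true then a else b := by
  cases c <;> rfl

/-- the entries describe the classes with the numbers in the list -/
def RepE (D : Dat) : EL → List ℕ → Prop
  | .nil, [] => True
  | .cons b o t e c an bp _ r, j :: l => b = 2 ^ j ∧ o = D.O j ∧ t = D.T j ∧ e = D.E j ∧ c = D.C j ∧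
      (∀ i, an.testBit i ↔ D.A j i) ∧ (bp = 1 ∨ bp.Prime ∧ ∃ a, D.O j = bp ^ a) ∧ RepE D r l
  | _, _ => False

/-- all listed numbers are divisors of `g` different from one -/
def PrD (g : ℕ) : PL → Prop
  | .nil => True
  | .cons p _ r => p ∣ g ∧ p ≠ 1 ∧ PrD g r

def Mem (d : ℕ) (z : ZL) : RL → Prop
  | .nil => False
  | .cons d' z' r => (d = d' ∧ z = z') ∨ Mem d z r

def zapp (S : ℕ → ℤ) : EL → List ℕ → ZL → ZL
  | .cons b o _ e _ an _ _ r, j :: l, z => .cons b o e an (S j).toNat (-S j).toNat (zapp S r l z)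
  | _, _, z => z

def zrev (S : ℕ → ℤ) : EL → List ℕ → ZL → ZL
  | .cons b o _ e _ an _ _ r, j :: l, z => zrev S r l (.cons b o e an (S j).toNat (-S j).toNat z)
  | _, _, z => z

variable {D : Dat}

theorem rep_rev : ∀ (A : EL) (l : List ℕ) (B : EL) (m : List ℕ), RepE D A l → RepE D B m →
    RepE D (rev A B) (l.reverseAux m) ∧ ∀ S z, zrev S (rev A B) (l.reverseAux m) z = zrev S B m (zapp S A l z)
  | .nil, [], _, _, _, h => ⟨h, fun _ _ => rfl⟩
  | .cons b o t e c an bp pc r, j :: l, B, m, ⟨h1, h2, h3, h4, h5, h6, h7, h8⟩, h =>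
    rep_rev r l (.cons b o t e c an bp pc B) (j :: m) h8 ⟨h1, h2, h3, h4, h5, h6, h7, h⟩
  | .nil, _ :: _, _, _, h, _ => h.elim
  | .cons .., [], _, _, h, _ => h.elim

theorem ad_sq (a b : ℕ) : ((ad a b * ad a b : ℕ) : ℤ) = ((a : ℤ) - b) ^ 2 := by
  show (((a - b + (b - a)) * (a - b + (b - a)) : ℕ) : ℤ) = _
  rcases le_total a b with h | h
  · rw [Nat.sub_eq_zero_of_le h, zero_add]; push_cast [h]; ring
  · rw [Nat.sub_eq_zero_of_le h, add_zero]; push_cast [h]; ring

section rows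

variable {g d b o t e c an bp nn st nrm lp ln rn : ℕ} {z : ZL} {acc : RL}
  {ih : ℕ → ℕ → ℕ → ℕ → ZL → RL → RL} {d' : ℕ} {z' : ZL}

theorem vl_succ (f s : ℕ) : vl g d b o t e c an bp nn st nrm lp ln rn z acc ih (f + 1) s =
    if s * s + t * t ≤ t * c ∧ nrm + s * s * nn / t ≤ g then
      (fun rest : RL => if s % bp = t * d % bp then
        ih (nrm + s * s * nn / t) (lp + s * nn) ln (rn - t * nn) (ZL.cons b o e an s 0 z) rest else rest)
      ((fun rest : RL => if (s + t * d) % bp = 0 ∧ 1 ≤ s then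
        ih (nrm + s * s * nn / t) lp (ln + s * nn) (rn - t * nn) (ZL.cons b o e an 0 s z) rest else rest)
        (vl g d b o t e c an bp nn st nrm lp ln rn z acc ih f (s + st)))
    else acc := by
  unfold vl
  simp only [br, Nat.beq_eq, Nat.ble_eq, Bool.if_false_right, Bool.and_eq_true, decide_eq_true_eq]
  rfl

theorem vl_mono (hi : ∀ a b c d z r, Mem d' z' r → Mem d' z' (ih a b c d z r)) (h : Mem d' z' acc) :
    ∀ f s, Mem d' z' (vl g d b o t e c an bp nn st nrm lp ln rn z acc ih f s)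
  | 0, _ => h
  | f + 1, s => by
    have := vl_mono hi h f (s + st)
    rw [vl_succ]
    dsimp only
    split_ifs <;> first | exact h | exact this | exact hi _ _ _ _ _ _ this | exact hi _ _ _ _ _ _ (hi _ _ _ _ _ _ this)

theorem vl_mem (hi : ∀ a b c d z r, Mem d' z' r → Mem d' z' (ih a b c d z r)) {u : ℕ}
    (h1 : u * u + t * t ≤ t * c) (h2 : nrm + u * u * nn / t ≤ g)
    (h3 : (u % bp = t * d % bp ∧ ∀ r, Mem d' z'
        (ih (nrm + u * u * nn / t) (lp + u * nn) ln (rn - t * nn) (ZL.cons b o e an u 0 z) r)) ∨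
      ((u + t * d) % bp = 0 ∧ 1 ≤ u) ∧ ∀ r, Mem d' z'
        (ih (nrm + u * u * nn / t) lp (ln + u * nn) (rn - t * nn) (ZL.cons b o e an 0 u z) r)) :
    ∀ f s i, i < f → u = s + i * st → Mem d' z' (vl g d b o t e c an bp nn st nrm lp ln rn z acc ih f s)
  | 0, _, _, h, _ => absurd h (Nat.not_lt_zero _)
  | f + 1, s, i, h, hu => by
    have h4 : s * s ≤ u * u := Nat.mul_self_le_mul_self (by omega)
    have h5 : s * s * nn / t ≤ u * u * nn / t := Nat.div_le_div_right (Nat.mul_le_mul_right _ h4)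
    rw [vl_succ, if_pos ⟨by omega, by omega⟩]
    dsimp only
    rcases i with _ | i
    · obtain rfl : u = s := by simpa using hu
      rcases h3 with h3 | h3
      · rw [if_pos h3.1]; exact h3.2 _
      · rw [if_pos h3.1]
        split_ifs
        exacts [hi _ _ _ _ _ _ (h3.2 _), h3.2 _]
    · have := vl_mem hi h1 h2 h3 f (s + st) i (by omega) (by rw [hu]; ring)
      split_ifs <;> first | exact this | exact hi _ _ _ _ _ _ this | exact hi _ _ _ _ _ _ (hi _ _ _ _ _ _ this)

theorem rg_cons {pc : PL} {r : EL} : rg g d (.cons b o t e c an bp pc r) nrm lp ln rn z acc =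
    if ad lp ln * ad lp ln ≤ (g - nrm) * rn then
      vl g d b o t e c an bp (g / c) (d / d.gcd (g / c)) nrm lp ln rn z acc (rg g d r)
        (if d.gcd (g / c) = 1 then 1 else t * d.gcd (g / c)) 0 else acc := by
  unfold rg
  simp only [br, Nat.beq_eq, Nat.ble_eq]
  rfl

theorem rg_nil : rg g d .nil nrm lp ln rn z acc = if lp = ln ∧ zok d z = true then .cons d z acc else acc := by
  unfold rg
  simp only [br, Nat.beq_eq, Bool.if_false_right, Bool.and_eq_true, decide_eq_true_eq]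

theorem rg_mono : ∀ (cols : EL) (nrm lp ln rn : ℕ) (z : ZL) (acc : RL), Mem d' z' acc →
    Mem d' z' (rg g d cols nrm lp ln rn z acc)
  | .nil, _, _, _, _, _, _, h => by
    rw [rg_nil]
    split_ifs
    exacts [Or.inr h, h]
  | .cons _ _ _ _ _ _ _ _ r, _, _, _, _, _, _, h => by
    rw [rg_cons]
    split_ifs
    exacts [vl_mono (rg_mono r) h _ _, vl_mono (rg_mono r) h _ _, h]

end rows

theorem cs {ι : Type*} (a x y : ι → ℚ) (M : Multiset ι) (h : ∀ i ∈ M, a i ^ 2 ≤ x i * y i ∧ 0 ≤ x i ∧ 0 ≤ y i) :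
    (M.map a).sum ^ 2 ≤ (M.map x).sum * (M.map y).sum ∧ 0 ≤ (M.map x).sum ∧ 0 ≤ (M.map y).sum := by
  induction M using Multiset.induction_on with
  | empty => simp
  | cons i M ih =>
    obtain ⟨h1, h2, h3⟩ := ih fun j hj => h j (Multiset.mem_cons_of_mem hj)
    obtain ⟨h4, h5, h6⟩ := h i (Multiset.mem_cons_self _ _)
    simp only [Multiset.map_cons, Multiset.sum_cons]
    have h7 := mul_le_mul h4 h1 (sq_nonneg _) (mul_nonneg h5 h6)
    have h8 : (2 * a i * (M.map a).sum) ^ 2 ≤ (x i * (M.map y).sum + y i * (M.map x).sum) ^ 2 := by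
      nlinarith [sq_nonneg (x i * (M.map y).sum - y i * (M.map x).sum)]
    have h9 := (abs_le_of_sq_le_sq' h8 (by positivity)).2
    exact ⟨by nlinarith, by positivity, by positivity⟩

theorem T_pos (h0 : D.F0) {j : ℕ} (hj : j < D.n) : 0 < D.T j :=
  Nat.div_pos (Nat.le_of_dvd (Nat.totient_pos.2 (by have := h0.two j hj; omega)) (h0.edvd j hj)) (h0.epos j hj)

theorem rg_mem (h0 : D.F0) {d : ℕ} {S : ℕ → ℤ} (hr : D.Row d S)
    (hc : ∀ j < D.n, S j ^ 2 + D.T j ^ 2 ≤ D.T j * D.C j) : ∀ (cols : EL) (l : List ℕ) (nrm lp ln rn : ℕ) (z : ZL)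
    (acc : RL), RepE D cols l → (∀ j ∈ l, j < D.n) →
    (nrm : ℚ) + (l.map fun j => (S j : ℚ) ^ 2 * D.N j / D.T j).sum ≤ D.g →
    (lp : ℤ) - ln + (l.map fun j => S j * D.N j).sum = 0 → rn = (l.map fun j => D.T j * D.N j).sum →
    zok d (zrev S cols l z) = true → Mem d (zrev S cols l z) (rg D.g d cols nrm lp ln rn z acc)
  | .nil, _ :: _, _, _, _, _, _, _, h, _, _, _, _, _ => h.elim
  | .cons .., [], _, _, _, _, _, _, h, _, _, _, _, _ => h.elim
  | .nil, [], _, lp, ln, _, z, _, _, _, _, h2, _, h4 => by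
    rw [rg_nil, if_pos ⟨by simp at h2; omega, h4⟩]
    exact Or.inl ⟨rfl, rfl⟩
  | .cons b o t e c an bp pc r, j :: l, nrm, lp, ln, rn, z, acc, ⟨_, _, ht, _, hc', _, hbp, hR⟩, hl, h1, h2, h3, h4 => by
    subst ht hc'
    have hj := hl j List.mem_cons_self
    have hl' : ∀ i ∈ l, i < D.n := fun i hi => hl i (List.mem_cons_of_mem _ hi)
    have hT := T_pos h0 hj
    have hq : ∀ l : List ℕ, (∀ i ∈ l, i < D.n) → _ := fun l hl => cs (fun j => ((S j * D.N j : ℤ) : ℚ))
      (fun j => (S j : ℚ) ^ 2 * D.N j / D.T j) (fun j => ((D.T j * D.N j : ℕ) : ℚ)) l fun i hi => by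
        have : (0 : ℚ) < D.T i := by exact_mod_cast T_pos h0 (hl i hi)
        refine ⟨le_of_eq ?_, by positivity, by positivity⟩
        push_cast; field_simp
    obtain ⟨q1, q2, q3⟩ := hq _ hl
    obtain ⟨-, q4, -⟩ := hq _ hl'
    simp only [Multiset.map_coe, Multiset.sum_coe] at q1 q2 q3 q4
    have e1 : ((j :: l).map fun j => ((S j * D.N j : ℤ) : ℚ)).sum = (ln : ℚ) - lp := by
      have := congrArg (Int.cast : ℤ → ℚ) h2
      rw [Int.cast_add, Int.cast_list_sum, List.map_map, Int.cast_sub, Int.cast_natCast, Int.cast_natCast,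
        Int.cast_zero] at this
      exact eq_of_sub_eq_zero (by rw [← this]; simp only [Function.comp_def]; ring)
    have e2 : ((j :: l).map fun j => ((D.T j * D.N j : ℕ) : ℚ)).sum = rn := by
      rw [h3, Nat.cast_list_sum, List.map_map]; rfl
    rw [e1, e2] at q1
    have e3 : nrm ≤ D.g := by exact_mod_cast (show (nrm : ℚ) ≤ D.g by linarith)
    have e4 : ad lp ln * ad lp ln ≤ (D.g - nrm) * rn := by
      have : ((ad lp ln * ad lp ln : ℕ) : ℚ) = ((ln : ℚ) - lp) ^ 2 := by
        have := congrArg (Int.cast : ℤ → ℚ) (ad_sq lp ln)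
        push_cast at this ⊢
        linear_combination this
      rw [← Nat.cast_le (α := ℚ), this]
      push_cast [e3]
      exact q1.trans (mul_le_mul_of_nonneg_right (by linarith) (Nat.cast_nonneg _))
    rw [rg_cons, if_pos e4]
    simp only [List.map_cons, List.sum_cons] at h1 h2 h3
    obtain ⟨u, hu⟩ : ∃ u : ℕ, u = (S j).natAbs := ⟨_, rfl⟩
    have u2 : (u : ℤ) * u = S j ^ 2 := by rw [hu, Int.natAbs_mul_self', pow_two]
    have e5 : ((nrm + u * u * (D.g / D.C j) / D.T j : ℕ) : ℚ) +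
        (l.map fun j => (S j : ℚ) ^ 2 * D.N j / D.T j).sum ≤ D.g := by
      have h5 : ((u * u * (D.g / D.C j) / D.T j : ℕ) : ℚ) ≤ (S j : ℚ) ^ 2 * D.N j / D.T j := by
        refine Nat.cast_div_le.trans (le_of_eq ?_)
        have := congrArg (Int.cast : ℤ → ℚ) u2
        push_cast at this
        rw [Nat.cast_mul, Nat.cast_mul, this]; rfl
      rw [Nat.cast_add]; linarith
    have e6 : rn - D.T j * (D.g / D.C j) = (l.map fun j => D.T j * D.N j).sum := by
      rw [h3]; exact Nat.add_sub_cancel_left ..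
    have hd : 0 < d := by have := hr.two; omega
    have e7 : d / d.gcd (D.N j) ∣ u := by
      have h5 : d ∣ u * D.N j := by
        have := Int.natAbs_dvd_natAbs.2 (hr.cen j hj)
        rwa [Int.natAbs_mul, Int.natAbs_natCast, Int.natAbs_natCast, ← hu] at this
      have h6 := Nat.gcd_pos_of_pos_left (D.N j) hd
      refine (Nat.coprime_div_gcd_div_gcd h6).dvd_of_dvd_mul_right (Nat.dvd_of_mul_dvd_mul_right h6 ?_)
      rwa [Nat.div_mul_cancel (Nat.gcd_dvd_left _ _), mul_assoc, Nat.div_mul_cancel (Nat.gcd_dvd_right _ _)]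
    obtain ⟨i, hi⟩ := e7
    have e8 : (bp : ℤ) ∣ S j - D.T j * d := by
      rcases hbp with rfl | ⟨hp, a, ha⟩
      exacts [by simp, hr.cong j hj bp a hp ha]
    refine vl_mem (rg_mono r) (u := u) ?_ ?_ ?_ _ 0 i ?_ (by rw [hi, zero_add, mul_comm]; rfl)
    · have := hc j hj
      zify; linarith
    · exact_mod_cast (show ((nrm + u * u * (D.g / D.C j) / D.T j : ℕ) : ℚ) ≤ D.g by linarith)
    · rcases le_or_gt 0 (S j) with h5 | h5
      · have h6 : S j = u := by omega
        refine Or.inl ⟨?_, fun acc => ?_⟩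
        · rw [h6] at e8
          exact (Nat.modEq_iff_dvd.2 (by push_cast; exact e8)).symm
        · have := rg_mem h0 hr hc r l _ (lp + u * (D.g / D.C j)) ln _ _ acc hR hl' e5
            (by rw [← h2, h6]; push_cast; unfold Dat.N; push_cast; ring) e6 h4
          simp only [zrev, h6, Int.toNat_natCast, Int.toNat_neg_natCast] at this ⊢
          exact this
      · have h6 : S j = -u := by omega
        refine Or.inr ⟨⟨?_, by omega⟩, fun acc => ?_⟩
        · rw [h6] at e8
          refine Nat.mod_eq_zero_of_dvd (Int.natCast_dvd_natCast.1 ?_)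
          push_cast
          exact (dvd_neg.2 e8).trans (dvd_of_eq (by ring))
        · have := rg_mem h0 hr hc r l _ lp (ln + u * (D.g / D.C j)) _ _ acc hR hl' e5
            (by rw [← h2, h6]; push_cast; unfold Dat.N; push_cast; ring) e6 h4
          simp only [zrev, h6, Int.toNat_natCast, Int.toNat_neg_natCast, neg_neg] at this ⊢
          exact this
    · change i < if d.gcd (D.N j) = 1 then 1 else D.T j * d.gcd (D.N j)
      have h6 := Nat.gcd_pos_of_pos_left (D.N j) hd
      have h7 : 0 < d / d.gcd (D.N j) := Nat.div_pos (Nat.gcd_le_left _ hd) h6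
      split_ifs with h5
      · have := hr.van j hj h5
        have h8 : u = 0 := by omega
        rw [h8, eq_comm, mul_eq_zero] at hi
        omega
      · have h8 : u < D.T j * d := by have := hr.lt j hj; rw [Int.abs_eq_natAbs, ← hu] at this; exact_mod_cast this
        refine Nat.lt_of_mul_lt_mul_left (a := d / d.gcd (D.N j)) ?_
        rwa [← hi, mul_left_comm, Nat.div_mul_cancel (Nat.gcd_dvd_left _ _)]

theorem zsum_eq {S : ℕ → ℤ} (mask : ℕ) (k : ℕ → ℕ → Bool) : ∀ (A : EL) (l : List ℕ) (p n : ℕ), RepE D A l →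
    ∃ p' n' : ℕ, zsum (zapp S A l .nil) mask k p n = k p' n' ∧
      (p' : ℤ) - n' = p - n + (l.map fun i => if mask.testBit i then D.E i * S i else 0).sum
  | .nil, _ :: _, _, _, h => h.elim
  | .cons .., [], _, _, h => h.elim
  | .nil, [], p, n, _ => ⟨p, n, rfl, by simp⟩
  | .cons b o t e c an bp pc r, j :: l, p, n, ⟨hb, _, _, he, _, _, _, hR⟩ => by
    subst hb he
    have e1 : zsum (zapp S (.cons (2 ^ j) o t (D.E j) c an bp pc r) (j :: l) .nil) mask k p n =
        if 2 ^ j &&& mask = 0 then zsum (zapp S r l .nil) mask k p n else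
          zsum (zapp S r l .nil) mask k (p + D.E j * (S j).toNat) (n + D.E j * (-S j).toNat) := by
      simp only [zapp, zsum, br, Nat.beq_eq]; rfl
    rw [e1, Nat.two_pow_and, List.map_cons, List.sum_cons]
    cases h : mask.testBit j
    · obtain ⟨p', n', h1, h2⟩ := zsum_eq (S := S) mask k r l p n hR
      exact ⟨p', n', by simpa using h1, by simpa using h2⟩
    · obtain ⟨p', n', h1, h2⟩ := zsum_eq (S := S) mask k r l (p + D.E j * (S j).toNat) (n + D.E j * (-S j).toNat) hR
      refine ⟨p', n', by simpa using h1, ?_⟩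
      rw [h2]
      have := Int.toNat_sub_toNat_neg (S j)
      push_cast
      simp only [if_true]
      linear_combination (D.E j : ℤ) * this

theorem not_A (h1 : D.F1) (h0 : D.F0) {j : ℕ} (hj : j < D.n) : ¬ D.A j j := fun ⟨d, h2, h3, h4, h5⟩ => by
  have h6 := (h1.pw j hj d h4 (mem_range.1 h2).ne).2.1
  rw [h5] at h6
  have := h0.two j hj
  nlinarith

theorem zok_zapp (h0 : D.F0) (h1 : D.F1) {d : ℕ} {S : ℕ → ℤ} (hr : D.Row d S) {A : EL} {l : List ℕ}
    (hA : RepE D A l) (hl : l.Perm (List.range D.n)) : zok d (zapp S A l .nil) = true := by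
  suffices h : ∀ (B : EL) (m : List ℕ), RepE D B m → (∀ j ∈ m, j < D.n) →
      ZL.rec (motive := fun _ => Bool) true (fun b o _ an _ _ _ ih => Bool.rec (motive := fun _ => Bool) false ih
        (zsum (zapp S A l .nil) (Nat.lor b an) (fun p n => Bool.rec (motive := fun _ => Bool) false
          (Nat.beq ((p - n) % o) 0) (Nat.ble n p)) d 0)) (zapp S B m .nil) = true from
    h A l hA fun j hj => List.mem_range.1 (hl.subset hj)
  intro B
  induction B with
  | nil => intro m _ _; cases m <;> rfl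
  | cons b o t e c an bp pc r ih =>
    rintro (_ | ⟨j, m⟩) h hm
    · exact h.elim
    obtain ⟨rfl, rfl, -, -, -, han, -, hR⟩ := h
    have hj := hm j List.mem_cons_self
    obtain ⟨p, n, h2, h3⟩ := zsum_eq (S := S) (Nat.lor (2 ^ j) an) (fun p n => Bool.rec (motive := fun _ => Bool)
      false (Nat.beq ((p - n) % D.O j) 0) (Nat.ble n p)) A l d 0 hA
    obtain ⟨k, hk⟩ := hr.mult j hj
    have h4 : (p : ℤ) - n = D.O j * k := by
      rw [h3, (hl.map _).sum_eq, ← hk, add_assoc, ← List.sum_toFinset _ List.nodup_range, List.toFinset_range,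
        sum_filter, ← sum_ite_eq_of_mem (range D.n) j (fun i => (D.E i : ℤ) * S i) (mem_range.2 hj),
        ← sum_add_distrib, Nat.cast_zero, sub_zero]
      congr 1
      refine sum_congr rfl fun i _ => ?_
      have h5 : (Nat.lor (2 ^ j) an).testBit i ↔ j = i ∨ D.A j i := by
        rw [← han]
        exact (by simp [Nat.testBit_two_pow] : (2 ^ j ||| an).testBit i ↔ j = i ∨ an.testBit i)
      simp only [h5]
      by_cases h6 : j = i
      · subst h6; simp [not_A h1 h0 hj]
      · simp [h6]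
    have h5 : n ≤ p := by have : (0 : ℤ) ≤ D.O j * k := by positivity
                          omega
    have h6 : p - n = D.O j * k := by zify [h5]; exact h4
    simp only [zapp]
    rw [h2, ih m hR fun i hi => hm i (List.mem_cons_of_mem _ hi), h6, Nat.mul_mod_right, Nat.ble_eq.mpr h5]
    rfl

theorem rd_mem (h0 : D.F0) (h1 : D.F1) {d : ℕ} {S : ℕ → ℤ} (hr : D.Row d S)
    (hc : ∀ j < D.n, S j ^ 2 + D.T j ^ 2 ≤ D.T j * D.C j) {A : EL} {l : List ℕ}
    (hA : RepE D A l) (hl : l.Perm (List.range D.n)) : Mem d (zapp S A l .nil) (rd D.g (rev A .nil) d) := by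
  obtain ⟨h2, h3⟩ := rep_rev A l .nil [] hA trivial
  have h4 : (l.reverseAux []).Perm (List.range D.n) := (List.reverse_perm l).trans hl
  have h5 : ∀ {α : Type} [AddCommMonoid α] (f : ℕ → α), ((l.reverseAux []).map f).sum = ∑ j ∈ range D.n, f j :=
    fun f => by rw [(h4.map _).sum_eq, ← List.sum_toFinset _ List.nodup_range, List.toFinset_range]
  have := rg_mem h0 hr hc _ _ (d * d) d 0 (D.g - 1) .nil .nil h2 (fun j hj => List.mem_range.1 (h4.subset hj))
    (by rw [h5, Nat.cast_mul, ← pow_two]; exact hr.nrm) (by rw [h5]; simpa using hr.lin)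
    (by rw [h5, ← h0.sumN]; rfl) (by rw [h3]; exact zok_zapp h0 h1 hr hA hl)
  rwa [h3] at this

theorem dvs_mem {g d : ℕ} (h1 : d ∣ g) (h2 : d * d < g) : ∀ (f s : ℕ) (acc : List ℕ),
    d ∈ acc ∨ (s ≤ d ∧ d < s + f) → d ∈ dvs g f s acc
  | 0, _, _, h => h.resolve_right (by omega)
  | f + 1, s, acc, h => by
    have e : dvs g (f + 1) s acc = if g ≤ s * s then acc else if g % s = 0 then dvs g f (s + 1) (s :: acc) else
        dvs g f (s + 1) acc := by
      unfold dvs; simp only [br, Nat.beq_eq, Nat.ble_eq]; rfl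
    rw [e]
    split_ifs with h3 h4
    · exact h.resolve_right fun h => by have := Nat.mul_self_le_mul_self h.1; omega
    · refine dvs_mem h1 h2 f _ _ ?_
      rw [List.mem_cons]
      rcases h with h | h
      exacts [Or.inl (Or.inr h), by omega]
    · refine dvs_mem h1 h2 f _ _ (h.imp_right fun h => ⟨lt_of_le_of_ne h.1 fun e => ?_, by omega⟩)
      exact h4 (e ▸ Nat.mod_eq_zero_of_dvd h1)

/-- the remaining column sums -/
def RepG (M : Multiset (ℕ × (ℕ → ℤ))) : KC.GL → List ℕ → Prop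
  | .nil, [] => True
  | .cons x yp yn r, j :: l => (x : ℤ) = (M.map fun ρ => ρ.2 j ^ 2).sum ∧
      (yp : ℤ) - yn = (M.map fun ρ => (ρ.1 : ℤ) * ρ.2 j).sum ∧ RepG M r l
  | _, _ => False

theorem gz_true : ∀ (G : KC.GL) (l : List ℕ), RepG 0 G l → gz G = true
  | .nil, _, _ => rfl
  | .cons .., [], h => h.elim
  | .cons x _ _ r, _ :: l, ⟨h1, _, h3⟩ => by
    obtain rfl : x = 0 := by simpa using h1
    exact gz_true r l h3

theorem g_step {M : Multiset (ℕ × (ℕ → ℤ))} {d dd : ℕ} {S : ℕ → ℤ} (hd : dd = (M.map fun ρ => ρ.1 ^ 2).sum) :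
    ∀ (A : EL) (l : List ℕ) (G : KC.GL), RepE D A l → RepG ((d, S) ::ₘ M) G l →
      gok d dd (zapp S A l .nil) G = true ∧ RepG M (gup d (zapp S A l .nil) G) l
  | .nil, _ :: _, _, h, _ => h.elim
  | .cons .., [], _, h, _ => h.elim
  | .nil, [], _, _, _ => ⟨rfl, trivial⟩
  | .cons .., _ :: _, .nil, _, h => h.elim
  | .cons b o t e c an bp pc r, j :: l, .cons x yp yn G, ⟨_, _, _, _, _, _, _, hR⟩, ⟨h1, h2, h3⟩ => by
    obtain ⟨h4, h5⟩ := g_step hd r l G hR h3
    simp only [Multiset.map_cons, Multiset.sum_cons] at h1 h2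
    obtain ⟨u, hu⟩ : ∃ u, u = (S j).toNat + (-S j).toNat := ⟨_, rfl⟩
    have u2 : (u : ℤ) * u = S j ^ 2 := by
      rw [hu, Int.toNat_add_toNat_neg_eq_natAbs, Int.natAbs_mul_self', pow_two]
    obtain ⟨q1, -, q3⟩ := cs (fun ρ : ℕ × (ℕ → ℤ) => (((ρ.1 : ℤ) * ρ.2 j : ℤ) : ℚ)) (fun ρ => ((ρ.1 ^ 2 : ℕ) : ℚ))
      (fun ρ => ((ρ.2 j ^ 2 : ℤ) : ℚ)) M fun ρ _ => ⟨le_of_eq (by push_cast; ring), by positivity, by positivity⟩
    have c1 : ∀ f : ℕ × (ℕ → ℤ) → ℤ, (M.map fun ρ => (f ρ : ℚ)).sum = ((M.map f).sum : ℤ) := fun f => by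
      rw [Int.cast_multiset_sum, Multiset.map_map]; rfl
    have c2 : (M.map fun ρ => ((ρ.1 ^ 2 : ℕ) : ℚ)).sum = dd := by
      rw [hd, Nat.cast_multiset_sum, Multiset.map_map]; rfl
    rw [c1] at q3
    rw [c1, c1, c2] at q1
    have q4 : (0 : ℤ) ≤ (M.map fun ρ => ρ.2 j ^ 2).sum := by exact_mod_cast q3
    have q5 : (M.map fun ρ => (ρ.1 : ℤ) * ρ.2 j).sum ^ 2 ≤ dd * (M.map fun ρ => ρ.2 j ^ 2).sum := by
      exact_mod_cast q1
    have e1 : u * u ≤ x := by zify; linarith
    have e2 : ((x - u * u : ℕ) : ℤ) = (M.map fun ρ => ρ.2 j ^ 2).sum := by push_cast [e1]; linarith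
    have e3 : ((yp + d * (-S j).toNat : ℕ) : ℤ) - (yn + d * (S j).toNat : ℕ) =
        (M.map fun ρ => (ρ.1 : ℤ) * ρ.2 j).sum := by
      push_cast
      linear_combination h2 - (d : ℤ) * Int.toNat_sub_toNat_neg (S j)
    have e4 : ad (yp + d * (-S j).toNat) (yn + d * (S j).toNat) * ad (yp + d * (-S j).toNat) (yn + d * (S j).toNat)
        ≤ dd * (x - u * u) := by
      rw [← Nat.cast_le (α := ℤ), ad_sq, e3, Nat.cast_mul, e2]; exact q5
    subst hu
    refine ⟨?_, e2, e3, h5⟩
    have e5 := Nat.ble_eq.mpr e1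
    have e6 := Nat.ble_eq.mpr e4
    exact (congrArg₂ (fun a b => Bool.rec (motive := fun _ => Bool) false
      (Bool.rec (motive := fun _ => Bool) false (gok d dd (zapp S r l .nil) G) b) a) e5 e6).trans h4

theorem srt_le {d : ℕ} {z : ZL} : ∀ (r : RL) (m : ℕ), r.srt m = true → Mem d z r → d ≤ m
  | .nil, _, _, h => h.elim
  | .cons d' _ r, m, h, h' => by
    have e : d' ≤ m ∧ r.srt d' = true := by simpa [RL.srt, br] using h
    rcases h' with h' | h'
    exacts [h'.1 ▸ e.1, (srt_le r d' e.2 h').trans e.1]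

theorem nt_false {A : EL} {l : List ℕ} (hA : RepE D A l) : ∀ (r : ℕ) (M : Multiset (ℕ × (ℕ → ℤ))) (rows : RL)
    (m dd : ℕ) (G : KC.GL), M.card = r → rows.srt m = true → (∀ ρ ∈ M, Mem ρ.1 (zapp ρ.2 A l .nil) rows) →
    dd = (M.map fun ρ => ρ.1 ^ 2).sum → RepG M G l → nt r rows dd G = false
  | 0, M, _, _, dd, G, h1, _, _, h4, h5 => by
    obtain rfl := Multiset.card_eq_zero.1 h1
    obtain rfl : dd = 0 := by simpa using h4
    exact congrArg (fun a => Bool.rec (motive := fun _ => Bool) true false a) (gz_true G l h5)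
  | r + 1, M, rows, m, dd, G, h1, h2, h3, h4, h5 => by
    induction rows generalizing m with
    | nil =>
      obtain ⟨ρ, h⟩ := Multiset.card_pos_iff_exists_mem.1 (show 0 < M.card by omega)
      exact (h3 ρ h).elim
    | cons d z rest ih =>
      have e : nt (r + 1) (.cons d z rest) dd G = (!decide (dd ≤ d * d * (r + 1)) ||
          ((!decide (d * d ≤ dd) || (!gok d (dd - d * d) z G || nt r (.cons d z rest) (dd - d * d) (gup d z G))) &&
            nt (r + 1) rest dd G)) := by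
        unfold nt ntl
        simp only [br, Nat.ble_eq, Bool.if_false_right, Bool.if_true_right, Bool.decide_eq_true]
        rfl
      have e1 : d ≤ m ∧ rest.srt d = true := by simpa [RL.srt, br] using h2
      have e2 : (RL.cons d z rest).srt d = true := by simpa [RL.srt, br] using e1.2
      have e3 : dd ≤ d * d * (r + 1) := by
        rw [h4, ← h1, mul_comm, ← smul_eq_mul, ← Multiset.card_map (fun ρ => ρ.1 ^ 2) M]
        refine Multiset.sum_le_card_nsmul _ _ fun y hy => ?_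
        obtain ⟨ρ, h, rfl⟩ := Multiset.mem_map.1 hy
        exact pow_two ρ.1 ▸ Nat.mul_self_le_mul_self (srt_le _ _ e2 (h3 ρ h))
      rw [e, decide_eq_true e3]
      by_cases h : ∃ ρ ∈ M, ρ.1 = d ∧ zapp ρ.2 A l .nil = z
      · obtain ⟨⟨d, S⟩, h6, rfl, rfl⟩ := h
        obtain ⟨M, rfl⟩ := Multiset.exists_cons_of_mem h6
        simp only [Multiset.map_cons, Multiset.sum_cons, pow_two d] at h4
        have e4 : dd - d * d = (M.map fun ρ => ρ.1 ^ 2).sum := by omega
        obtain ⟨h7, h8⟩ := g_step e4 A l G hA h5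
        rw [h7, nt_false hA r M _ _ _ _ (by simpa using h1) e2 (fun ρ hρ => h3 ρ (Multiset.mem_cons_of_mem hρ)) e4 h8,
          decide_eq_true (show d * d ≤ dd by omega)]
        rfl
      · rw [ih d e1.2 fun ρ hρ => (h3 ρ hρ).resolve_left fun h' => h ⟨ρ, hρ, h'⟩]
        simp

theorem mem_app {d : ℕ} {z : ZL} {s : RL} : ∀ r : RL, Mem d z r ∨ Mem d z s → Mem d z (r.app s)
  | .nil, h => h.resolve_left id
  | .cons _ _ r, h => (or_assoc.1 h).imp_right (mem_app r)

theorem g0_rep {M : Multiset (ℕ × (ℕ → ℤ))}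
    (h1 : ∀ j < D.n, (M.map fun r => (r.1 : ℤ) * r.2 j).sum + D.T j = 0)
    (h2 : ∀ j < D.n, (M.map fun r => r.2 j ^ 2).sum + D.T j ^ 2 = (D.T j * D.C j : ℤ)) :
    ∀ (A : EL) (l : List ℕ), RepE D A l → (∀ j ∈ l, j < D.n) → RepG M (g0 A) l
  | .nil, _ :: _, h, _ => h.elim
  | .cons .., [], h, _ => h.elim
  | .nil, [], _, _ => trivial
  | .cons b o t e c an bp pc r, j :: l, ⟨_, _, ht, _, hc, _, _, hR⟩, hl => by
    subst ht hc
    have h3 := h1 j (hl j List.mem_cons_self)
    have h4 := h2 j (hl j List.mem_cons_self)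
    have h5 : (0 : ℤ) ≤ (M.map fun r => r.2 j ^ 2).sum := Multiset.sum_nonneg fun y hy => by
      obtain ⟨ρ, -, rfl⟩ := Multiset.mem_map.1 hy
      positivity
    refine ⟨?_, by simp; linarith, g0_rep h1 h2 r l hR fun i hi => hl i (List.mem_cons_of_mem _ hi)⟩
    have h6 : D.T j * D.T j ≤ D.T j * D.C j := by zify; linarith
    exact (Nat.cast_sub h6).trans (by push_cast; linarith)

theorem ct_false (h0 : D.F0) (h1 : D.F1) (h4 : D.F4) {A : EL} {l : List ℕ} (hA : RepE D A l)
    (hl : l.Perm (List.range D.n)) {PR : PL} (hP : PrD D.g PR) {kk : ℕ} (hk : kk + 1 = D.k) :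
    ct kk D.g A PR = false := by
  obtain ⟨M, m1, m2, m3, m4, m5⟩ := h4.tab
  have e : ct kk D.g A PR = (decide (D.g ≤ 9000000) &&
      ct2 kk D.g A PR (rd D.g (rev A .nil)) (dvs D.g 3000 2 [])) := by
    unfold ct; simp only [br, Nat.ble_eq, Bool.if_false_right]
  rw [e, Bool.and_eq_false_iff, decide_eq_false_iff_not, ← imp_iff_not_or]
  intro hg
  clear e
  have r1 : ∀ ρ ∈ M, Mem ρ.1 (zapp ρ.2 A l .nil) (rd D.g (rev A .nil) ρ.1) := fun ρ hρ =>
    rd_mem h0 h1 (m2 ρ hρ) (fun j hj => by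
      rw [← m5 j hj]
      exact add_le_add_left (Multiset.single_le_sum (s := M.map fun r => r.2 j ^ 2) (fun y hy => by
        obtain ⟨ρ, -, rfl⟩ := Multiset.mem_map.1 hy
        positivity) _ (Multiset.mem_map_of_mem _ hρ)) _) hA hl
  have r2 : ∀ ρ ∈ M, ρ.1 ∈ dvs D.g 3000 2 [] := fun ρ hρ => by
    have h5 : ρ.1 * ρ.1 < D.g := by
      rw [← m3, ← pow_two]
      exact Nat.lt_succ_of_le (Multiset.single_le_sum (fun _ _ => Nat.zero_le _) _ (Multiset.mem_map_of_mem _ hρ))
    exact dvs_mem (m2 ρ hρ).dvd h5 _ _ _ (Or.inr ⟨(m2 ρ hρ).two, by nlinarith⟩)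
  generalize rd D.g (rev A .nil) = R at r1 ⊢
  generalize dvs D.g 3000 2 [] = DL at r2 ⊢
  have r3 : ∀ (d : ℕ) (z : ZL) (DL : List ℕ), d ∈ DL → Mem d z (R d) →
      Mem d z (List.rec (motive := fun _ => RL) RL.nil (fun d _ ih => (R d).app ih) DL) := fun d z DL h h' => by
    induction DL with
    | nil => simp at h
    | cons a DL ih => exact mem_app _ ((List.mem_cons.1 h).imp (fun e : d = a => e ▸ h') ih)
  have r4 : ∀ p, p ∣ D.g → p ≠ 1 → List.rec (motive := fun _ => Bool) true (fun d _ ih2 =>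
      Bool.rec (motive := fun _ => Bool) false ih2 (Bool.rec (motive := fun _ => Bool) (R d).isNil true
        (Nat.beq (d % p) 0))) DL = false := fun p hp hp1 => by
    obtain ⟨ρ, h5, h6⟩ : ∃ ρ ∈ M, ¬ p ∣ ρ.1 := by
      by_contra! h
      refine hp1 (Nat.dvd_one.1 ((Nat.dvd_add_right (Multiset.dvd_sum fun y hy => ?_)).1 (m3 ▸ hp)))
      obtain ⟨ρ, h5, rfl⟩ := Multiset.mem_map.1 hy
      exact (h ρ h5).trans (dvd_pow_self _ two_ne_zero)
    have h7 := r1 ρ h5
    have h8 := r2 ρ h5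
    clear r2 r3
    induction DL with
    | nil => simp at h8
    | cons a DL ih =>
      rcases List.mem_cons.1 h8 with rfl | h8
      · have h9 : Nat.beq (ρ.1 % p) 0 = false := Bool.eq_false_iff.2 fun h =>
          h6 (Nat.dvd_of_mod_eq_zero (Nat.eq_of_beq_eq_true h))
        have h10 : (R ρ.1).isNil = false := by
          cases h : R ρ.1
          exacts [(h ▸ h7).elim, rfl]
        simp only [h9, h10]
      · dsimp only
        rw [ih h8, br, ite_self]
  have r5 : PL.rec (motive := fun _ => Bool) false (fun p _ _ ih => Bool.rec (motive := fun _ => Bool) ih true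
      (List.rec (motive := fun _ => Bool) true (fun d _ ih2 => Bool.rec (motive := fun _ => Bool) false ih2
        (Bool.rec (motive := fun _ => Bool) (R d).isNil true (Nat.beq (d % p) 0))) DL)) PR = false := by
    induction PR with
    | nil => rfl
    | cons p c r ih => dsimp only; rw [r4 p hP.1 hP.2.1]; exact ih hP.2.2
  unfold ct2
  refine (congrArg (fun a => Bool.rec (motive := fun _ => Bool) _ true a) r5).trans ?_
  dsimp only
  cases h : RL.srt (cat R DL) D.g
  · rfl
  · exact nt_false hA kk M _ _ _ _ (by omega) h (fun ρ hρ => r3 _ _ _ (r2 ρ hρ) (r1 ρ hρ)) (by rw [← m3]; rfl)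
      (g0_rep m4 m5 A l hA fun j hj => List.mem_range.1 (hl.subset hj))

end Cfsg.Agent.KC.RS
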