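import Cfsg.Agent.KC.P1
import Cfsg.Agent.KC.Fin
import Cfsg.Agent.KC.Char
import Cfsg.Agent.KC.Cls

/-! The search applied to a simple group. -/

set_option autoImplicit false

namespace Cfsg.Agent.KC

theorem search_top {G : Type*} [Group G] [Finite G] [IsSimpleGroup G] (hG : ¬ IsMulCommutative G) {kk : ℕ}
    (hk : Nat.card (ConjClasses G) = kk + 1) {acc : List (ℕ × List (ℕ × ℕ × ℕ))} (h : Done kk acc) :
    (∀ g : G, g ≠ 1 → IsPrimePow (orderOf g)) ∨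
      ∃ D x cls, Link G D x cls ∧ ∃ y ∈ acc, D.g = y.1 ∧ D.Acc y.2 := by
  obtain ⟨D, x, cls, L, h0⟩ := exists_link G
  have h1 := L.f1 h0 hG
  exact (search ⟨h0, h1, L.f2 h0 hG, L.f3 h0 h1, L.f4 h0 h1 hG⟩ (hk.symm.trans L.kk) h).imp L.eppo
    fun e => ⟨D, x, cls, L, e⟩

end Cfsg.Agent.KC
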